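import Cfsg.Agent.Lib.BenderSuzuki.Abelian.Count
import Cfsg.Agent.Lib.Characters.Complete
import Cfsg.Agent.Lib.Characters.Linear

/-!
# Exceptional characters of an abelian TI kernel

`pairChar lam μ` is induced from `lam - μ`; for free characters in different orbits it is the
difference of two irreducible characters of equal degree.
-/

set_option autoImplicit false
set_option linter.unusedSectionVars false
set_option linter.style.haveILetI false
set_option linter.unusedSimpArgs false

namespace Cfsg.Agent.Lib.BenderSuzuki.Abelian.Exceptional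

open MulAction Cfsg.Agent.Lib.RankOne.Basic Cfsg.Agent.Lib.RankOne.Involution
open Cfsg.Agent.Lib.BenderSuzuki Cfsg.Agent.Lib.BenderSuzuki.Abelian.Setup
open Cfsg.Agent.Lib.BenderSuzuki.Abelian.Count
open Cfsg.Agent.Lib.Characters.Basic Cfsg.Agent.Lib.Induced.Basic
open scoped ComplexConjugate

universe u v

/-- An integer vector of squared length two has two non-zero entries, both signs. -/
theorem two_entries {ι : Type*} [Fintype ι] [DecidableEq ι] (m : ι → ℤ) (hsq : ∑ i, m i * m i = 2) :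
    ∃ i j, i ≠ j ∧ (m i = 1 ∨ m i = -1) ∧ (m j = 1 ∨ m j = -1) ∧ ∀ k, k ≠ i → k ≠ j → m k = 0 := by
  have hle : ∀ i, m i * m i ≤ 2 := fun i => hsq ▸
    Finset.single_le_sum (f := fun j => m j * m j) (fun j _ => mul_self_nonneg (m j)) (Finset.mem_univ i)
  have hval : ∀ i, m i = 0 ∨ m i = 1 ∨ m i = -1 := fun i => by
    have := hle i
    have h1 : -1 ≤ m i := by nlinarith
    have h2 : m i ≤ 1 := by nlinarith
    omega
  set T := Finset.univ.filter fun i => m i ≠ 0 with hT
  have hcard : T.card = 2 := by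
    have : ∑ i, m i * m i = (T.card : ℤ) := by
      rw [hT, Finset.card_filter, Nat.cast_sum]
      refine Finset.sum_congr rfl fun i _ => ?_
      rcases hval i with e | e | e <;> simp [e]
    omega
  obtain ⟨i, j, hij, hTij⟩ := Finset.card_eq_two.1 hcard
  have hmem : ∀ k, m k ≠ 0 ↔ k = i ∨ k = j := fun k => by
    have h1 : k ∈ T ↔ k ∈ ({i, j} : Finset ι) := by rw [hTij]
    simpa [hT] using h1
  refine ⟨i, j, hij, (hval i).resolve_left ((hmem i).2 (Or.inl rfl)),
    (hval j).resolve_left ((hmem j).2 (Or.inr rfl)), fun k hki hkj => ?_⟩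
  by_contra hk
  rcases (hmem k).1 hk with e | e
  · exact hki e
  · exact hkj e

variable {G : Type u} {Ω : Type v} [Group G] [Fintype G] [MulAction G Ω] {a : Ω} {t : G}
  {Q C : Subgroup G}

/-- The class function induced from `lam - μ`. -/
noncomputable def pairChar (Q : Subgroup G) (lam μ : Q →* ℂˣ) : G → ℂ :=
  Cfsg.indFun Q fun x => (lam x : ℂ) - (μ x : ℂ)

theorem pairChar_classFun (lam μ : Q →* ℂˣ) : Cfsg.IsClassFunction G (pairChar Q lam μ) :=
  isClassFunction_indFun _ _

theorem pairChar_one (lam μ : Q →* ℂˣ) : pairChar Q lam μ 1 = 0 := by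
  rw [pairChar, indFun_one]
  simp

/-- The multiplicities are integers. -/
theorem pairChar_int (lam μ : Q →* ℂˣ) (χ : Cfsg.IrrCharacter G) :
    ∃ m : ℤ, Cfsg.classInner (pairChar Q lam μ) (χ : G → ℂ) = m := by
  classical
  letI := Fintype.ofFinite Q
  have hres : Cfsg.IsCharacter Q (fun x : Q => (χ : G → ℂ) x) :=
    isCharacter_comp Q.subtype (isCharacter_irr χ)
  obtain ⟨i, hi⟩ := exists_classInner_nat (isCharacter_irr (Characters.Linear.linChar lam)) hres
  obtain ⟨j, hj⟩ := exists_classInner_nat (isCharacter_irr (Characters.Linear.linChar μ)) hres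
  refine ⟨(i : ℤ) - j, ?_⟩
  rw [pairChar, frobenius_reciprocity _ _ (isClassFunction_irr χ),
    show (fun x : Q => (lam x : ℂ) - (μ x : ℂ)) =
      (Characters.Linear.linChar lam : Q → ℂ) - (Characters.Linear.linChar μ : Q → ℂ) from rfl,
    classInner_sub_left, hi, hj]
  push_cast
  ring

variable (h : Ctx G Ω a t Q C) [Fintype Q] [Fintype (twoStab G a t)] [DecidableEq (Q →* ℂˣ)]

/-- The values on the kernel. -/
theorem indFun_kernel (ψ : Q → ℂ) {x : Q} (hx : x ≠ 1) :
    Cfsg.indFun Q ψ x = ∑ d : twoStab G a t, ψ (conjQ h d x) := by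
  classical
  have hS := h.setup
  have hx1 : (x : G) ≠ 1 := fun e => hx (Subtype.ext e)
  have hmem : ∀ y : G, y⁻¹ * x * y ∈ Q → y • a = a := by
    intro y hy
    by_contra hne
    refine hx1 (Q_free hS x.2 hne ?_)
    calc (x : G) • (y • a) = y • ((y⁻¹ * x * y) • a) := by
          rw [← mul_smul, ← mul_smul]; congr 1; group
      _ = y • a := by rw [Q_fix hS hy]
  have key : ∀ y : G, Cfsg.extendByZero Q ψ (y⁻¹ * x * y) =
      if hy : y • a = a then Cfsg.extendByZero Q ψ (y⁻¹ * x * y) else 0 := by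
    intro y
    split_ifs with hy
    · rfl
    · exact extendByZero_of_not_mem Q ψ fun e => hy (hmem y e)
  rw [Cfsg.indFun, Finset.sum_congr rfl fun y _ => key y]
  have e1 : ∑ y : G, (if hy : y • a = a then Cfsg.extendByZero Q ψ (y⁻¹ * x * y) else 0) =
      ∑ p : Q × twoStab G a t, ψ (conjQ h p.2⁻¹ x) := by
    simp only [dite_eq_ite]
    rw [← Finset.sum_filter]
    symm
    refine Finset.sum_bij (fun p _ => (p.1 : G) * p.2) (fun p _ => ?_) (fun p _ p' _ e => ?_)
      (fun y hy => ?_) fun p _ => ?_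
    · simp [mul_smul, (mem_twoStab.1 p.2.2).1, Q_fix hS p.1.2]
    · obtain ⟨e1, e2⟩ := Q_D_unique hS p.1.2 p'.1.2 p.2.2 p'.2.2 e
      exact Prod.ext (Subtype.ext e1) (Subtype.ext e2)
    · obtain ⟨z, hz, d, hd, rfl⟩ := exists_Q_D hS (Finset.mem_filter.1 hy).2
      exact ⟨(⟨z, hz⟩, ⟨d, hd⟩), Finset.mem_univ _, rfl⟩
    · rw [← extendByZero_coe Q ψ (conjQ h p.2⁻¹ x), conjQ_coe]
      congr 1
      calc ((p.2⁻¹ : twoStab G a t) : G) * x * ((p.2⁻¹ : twoStab G a t) : G)⁻¹
          = (p.2 : G)⁻¹ * ((p.1 : G)⁻¹ * ((p.1 : G) * x)) * p.2 := by rw [Subgroup.coe_inv]; group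
        _ = (p.2 : G)⁻¹ * ((p.1 : G)⁻¹ * ((x : G) * p.1)) * p.2 := by rw [h.comm _ p.1.2 _ x.2]
        _ = _ := by group
  rw [e1, Fintype.sum_prod_type]
  simp only
  rw [Finset.sum_const, nsmul_eq_mul, Finset.card_univ,
    ← Nat.card_eq_fintype_card, ← mul_assoc, inv_mul_cancel₀ (subgroup_card_ne_zero Q), one_mul]
  exact Fintype.sum_equiv (Equiv.inv _) _ _ fun d => rfl

/-- Inner products of the induced differences. -/
theorem classInner_pairChar (lam μ lam' μ' : Q →* ℂˣ) :
    Cfsg.classInner (pairChar Q lam μ) (pairChar Q lam' μ') =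
      ∑ d : twoStab G a t,
        ((if lam = tw h d lam' then (1 : ℂ) else 0) - (if lam = tw h d μ' then 1 else 0) -
          ((if μ = tw h d lam' then 1 else 0) - (if μ = tw h d μ' then 1 else 0))) := by
  classical
  rw [pairChar, frobenius_reciprocity _ _ (pairChar_classFun lam' μ')]
  have hval : ∀ x : Q, ((lam x : ℂ) - μ x) * conj (pairChar Q lam' μ' x) =
      ∑ d : twoStab G a t, ((lam x : ℂ) - μ x) *
        conj ((tw h d lam' x : ℂ) - (tw h d μ' x : ℂ)) := by
    intro x
    by_cases hx : x = 1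
    · subst hx; simp
    · rw [pairChar, indFun_kernel h _ hx, map_sum, Finset.mul_sum]
      rfl
  rw [Cfsg.classInner, Finset.sum_congr rfl fun x _ => hval x, Finset.sum_comm, Finset.mul_sum]
  refine Finset.sum_congr rfl fun d _ => ?_
  show Cfsg.classInner ((Characters.Linear.linChar lam : Q → ℂ) - (Characters.Linear.linChar μ : Q → ℂ))
    ((Characters.Linear.linChar (tw h d lam') : Q → ℂ) - (Characters.Linear.linChar (tw h d μ') : Q → ℂ)) = _
  rw [classInner_sub_left, classInner_sub_right, classInner_sub_right]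
  simp only [classInner_irr, Characters.Linear.linChar_injective.eq_iff]

/-- Free characters in different orbits: length two. -/
theorem classInner_self {lam μ : Q →* ℂˣ} (hl : IsFree h lam) (hm : IsFree h μ)
    (hne : ∀ d, lam ≠ tw h d μ) : Cfsg.classInner (pairChar Q lam μ) (pairChar Q lam μ) = 2 := by
  classical
  have hne' : ∀ d, μ ≠ tw h d lam := fun d e => hne d⁻¹ (by
    rw [e, ← tw_mul h, mul_inv_cancel, tw_one h])
  have h1 : ∀ {ν : Q →* ℂˣ}, IsFree h ν → ∀ d, ν = tw h d ν ↔ d = 1 := fun hν d =>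
    ⟨fun e => hν d e.symm, fun e => by rw [e, tw_one h]⟩
  rw [classInner_pairChar h]
  simp only [hne, hne', if_false, h1 hl, h1 hm, sub_zero, zero_sub, sub_neg_eq_add]
  rw [Finset.sum_add_distrib, Finset.sum_ite_eq' Finset.univ, if_pos (Finset.mem_univ _)]
  norm_num

/-- Two different orbits against a common third one: inner product one. -/
theorem classInner_cross {lam lam' μ : Q →* ℂˣ} (hm : IsFree h μ)
    (hll : ∀ d, lam ≠ tw h d lam') (hne : ∀ d, lam ≠ tw h d μ) (hne' : ∀ d, lam' ≠ tw h d μ) :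
    Cfsg.classInner (pairChar Q lam μ) (pairChar Q lam' μ) = 1 := by
  classical
  have hmu : ∀ d, μ ≠ tw h d lam' := fun d e => hne' d⁻¹ (by
    rw [e, ← tw_mul h, mul_inv_cancel, tw_one h])
  have h1 : ∀ d, μ = tw h d μ ↔ d = 1 := fun d =>
    ⟨fun e => hm d e.symm, fun e => by rw [e, tw_one h]⟩
  rw [classInner_pairChar h]
  simp only [hne, hll, hmu, if_false, h1, sub_zero, zero_sub, sub_neg_eq_add, zero_add]
  rw [Finset.sum_ite_eq' Finset.univ, if_pos (Finset.mem_univ _)]

/-- The two constituents of an induced difference. -/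
theorem constituents [Fintype (Cfsg.IrrCharacter G)] {lam μ : Q →* ℂˣ} (hl : IsFree h lam)
    (hm : IsFree h μ) (hne : ∀ d, lam ≠ tw h d μ) :
    ∃ (ε : ℤ) (X X' : Cfsg.IrrCharacter G), X ≠ X' ∧ (ε = 1 ∨ ε = -1) ∧
      (X : G → ℂ) 1 = (X' : G → ℂ) 1 ∧
      Cfsg.classInner (pairChar Q lam μ) (X : G → ℂ) = ε ∧
      Cfsg.classInner (pairChar Q lam μ) (X' : G → ℂ) = -ε ∧
      (∀ χ, χ ≠ X → χ ≠ X' → Cfsg.classInner (pairChar Q lam μ) (χ : G → ℂ) = 0) ∧
      pairChar Q lam μ = (ε : ℂ) • ((X : G → ℂ) - (X' : G → ℂ)) := by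
  classical
  choose m hm' using pairChar_int (Q := Q) lam μ
  have hdec := Characters.Complete.classFunction_eq_sum (pairChar_classFun (Q := Q) lam μ)
  have hsq : ∑ χ, m χ * m χ = 2 := by
    have h2 := classInner_self h hl hm hne
    have e : Cfsg.classInner (pairChar Q lam μ) (pairChar Q lam μ) =
        ∑ χ : Cfsg.IrrCharacter G, (m χ : ℂ) * (m χ : ℂ) := by
      conv_lhs => arg 1; rw [hdec]
      rw [classInner_sum_left]
      refine Finset.sum_congr rfl fun χ _ => ?_
      rw [classInner_smul_left, hm', ← classInner_conj_symm (pairChar Q lam μ) (χ : G → ℂ), hm']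
      simp
    rw [e] at h2
    exact_mod_cast h2
  obtain ⟨X, X', hXX, hX, hX', h0⟩ := two_entries m hsq
  have hfun : pairChar Q lam μ = (m X : ℂ) • (X : G → ℂ) + (m X' : ℂ) • (X' : G → ℂ) := by
    conv_lhs => rw [hdec]
    rw [← Finset.sum_subset (Finset.subset_univ {X, X'}) (fun χ _ hχ => by
      simp only [Finset.mem_insert, Finset.mem_singleton, not_or] at hχ
      rw [hm', h0 χ hχ.1 hχ.2, Int.cast_zero, zero_smul]), Finset.sum_pair hXX, hm', hm']
  have hdeg : (m X : ℂ) * (X : G → ℂ) 1 + (m X' : ℂ) * (X' : G → ℂ) 1 = 0 := by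
    have := congrFun hfun 1
    rw [pairChar_one] at this
    simpa using this.symm
  obtain ⟨n, hn0, hn⟩ := exists_degree_pos X
  obtain ⟨n', hn0', hn'⟩ := exists_degree_pos X'
  rw [hn, hn'] at hdeg
  have hdegZ : m X * n + m X' * n' = 0 := by exact_mod_cast hdeg
  have hopp : m X' = -m X ∧ n = n' := by
    rcases hX with e | e <;> rcases hX' with e' | e' <;> rw [e, e'] at hdegZ ⊢ <;>
      constructor <;> omega
  refine ⟨m X, X, X', hXX, hX, by rw [hn, hn', hopp.2], hm' X, by rw [hm', hopp.1]; simp,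
    fun χ h1 h2 => by rw [hm', h0 χ h1 h2]; simp, ?_⟩
  rw [hfun, hopp.1, smul_sub]
  push_cast
  rw [neg_smul, sub_eq_add_neg]

/-- Many irreducible characters of one degree. -/
theorem many_of_degree [Fintype (Cfsg.IrrCharacter G)] {μ : Q →* ℂˣ} (hm : IsFree h μ)
    (R : Finset (Q →* ℂˣ)) (hR : ∀ lam ∈ R, IsFree h lam ∧ ∀ d, lam ≠ tw h d μ)
    (hRR : ∀ lam ∈ R, ∀ lam' ∈ R, lam ≠ lam' → ∀ d, lam ≠ tw h d lam')
    {lam₀ : Q →* ℂˣ} (hl₀ : IsFree h lam₀) (hne₀ : ∀ d, lam₀ ≠ tw h d μ)
    {X : Cfsg.IrrCharacter G} (hX : Cfsg.classInner (pairChar Q lam₀ μ) (X : G → ℂ) ≠ 0) :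
    R.card ≤ (Finset.univ.filter fun χ : Cfsg.IrrCharacter G => (χ : G → ℂ) 1 = (X : G → ℂ) 1).card := by
  classical
  set U := Finset.univ.filter fun χ : Cfsg.IrrCharacter G => (χ : G → ℂ) 1 = (X : G → ℂ) 1 with hU
  -- all constituents of a member have the degree of `X`
  have hdegU : ∀ lam ∈ R, ∀ χ : Cfsg.IrrCharacter G,
      Cfsg.classInner (pairChar Q lam μ) (χ : G → ℂ) ≠ 0 → χ ∈ U := by
    intro lam hlam χ hχ
    obtain ⟨ε, Y, Y', -, -, hY, hYi, hYi', hY0, hYfun⟩ := constituents h (hR lam hlam).1 hm (hR lam hlam).2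
    obtain ⟨ε₀, Z, Z', -, -, hZ, hZi, hZi', hZ0, hZfun⟩ := constituents h hl₀ hm hne₀
    have hdeg1 : ∀ χ : Cfsg.IrrCharacter G, Cfsg.classInner (pairChar Q lam μ) (χ : G → ℂ) ≠ 0 →
        (χ : G → ℂ) 1 = (Y : G → ℂ) 1 := by
      intro χ hχ
      by_cases e1 : χ = Y
      · rw [e1]
      by_cases e2 : χ = Y'
      · rw [e2, hY]
      exact absurd (hY0 χ e1 e2) hχ
    have hdeg0 : ∀ χ : Cfsg.IrrCharacter G, Cfsg.classInner (pairChar Q lam₀ μ) (χ : G → ℂ) ≠ 0 →
        (χ : G → ℂ) 1 = (Z : G → ℂ) 1 := by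
      intro χ hχ
      by_cases e1 : χ = Z
      · rw [e1]
      by_cases e2 : χ = Z'
      · rw [e2, hZ]
      exact absurd (hZ0 χ e1 e2) hχ
    simp only [hU, Finset.mem_filter, Finset.mem_univ, true_and]
    rw [hdeg1 χ hχ, hdeg0 X hX]
    by_cases hsame : ∃ d, lam = tw h d lam₀
    · -- the two functions coincide or are equal up to orbit
      obtain ⟨d, hd⟩ := hsame
      have hinner : Cfsg.classInner (pairChar Q lam μ) (pairChar Q lam₀ μ) ≠ 0 := by
        rw [classInner_pairChar h]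
        have hmu : ∀ d, μ ≠ tw h d lam₀ := fun d e => hne₀ d⁻¹ (by
          rw [e, ← tw_mul h, mul_inv_cancel, tw_one h])
        have h1 : ∀ d', μ = tw h d' μ ↔ d' = 1 := fun d' =>
          ⟨fun e => hm d' e.symm, fun e => by rw [e, tw_one h]⟩
        have h2 : ∀ d', lam = tw h d' lam₀ ↔ d' = d := fun d' => by
          refine ⟨fun e => ?_, fun e => by rw [e]; exact hd⟩
          have e1 : tw h d⁻¹ (tw h d' lam₀) = lam₀ := by
            rw [← e, hd, ← tw_mul h, mul_inv_cancel, tw_one h]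
          rw [← tw_mul h] at e1
          exact mul_inv_eq_one.1 (hl₀ _ e1)
        simp only [(hR lam hlam).2, hmu, if_false, h1, h2, sub_zero, zero_sub, sub_neg_eq_add]
        rw [Finset.sum_add_distrib, Finset.sum_ite_eq' Finset.univ, Finset.sum_ite_eq' Finset.univ,
          if_pos (Finset.mem_univ _), if_pos (Finset.mem_univ _)]
        norm_num
      exact shared hinner hYfun hdeg0
    · push Not at hsame
      have hinner : Cfsg.classInner (pairChar Q lam μ) (pairChar Q lam₀ μ) ≠ 0 := by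
        rw [classInner_cross h hm hsame (hR lam hlam).2 hne₀]; norm_num
      exact shared hinner hYfun hdeg0
  -- linear independence
  let v : {lam // lam ∈ R} → (G → ℂ) := fun lam => pairChar Q lam.1 μ
  have hv : LinearIndependent ℂ v := by
    rw [Fintype.linearIndependent_iff]
    intro c hc
    have hpair : ∀ j, c j + ∑ i, c i = 0 := by
      intro j
      have h1 := congrArg (fun f => Cfsg.classInner f (v j)) hc
      simp only [classInner_sum_left, classInner_smul_left, classInner_zero_left] at h1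
      have hoff : ∀ i ∈ (Finset.univ : Finset {lam // lam ∈ R}).erase j,
          c i * Cfsg.classInner (v i) (v j) = c i := fun i hi => by
        rw [classInner_cross h hm (hRR i.1 i.2 j.1 j.2 fun e => Finset.ne_of_mem_erase hi (Subtype.ext e))
          (hR i.1 i.2).2 (hR j.1 j.2).2, mul_one]
      rw [← h1, ← Finset.add_sum_erase _ (fun i => c i * Cfsg.classInner (v i) (v j)) (Finset.mem_univ j),
        ← Finset.add_sum_erase _ c (Finset.mem_univ j), Finset.sum_congr rfl hoff,
        classInner_self h (hR j.1 j.2).1 hm (hR j.1 j.2).2]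
      ring
    have hsum : ∑ i, c i = 0 := by
      have h1 := Finset.sum_eq_zero (s := Finset.univ) fun j _ => hpair j
      rw [Finset.sum_add_distrib, Finset.sum_const, nsmul_eq_mul] at h1
      have h2 : ((Finset.univ : Finset {lam // lam ∈ R}).card + 1 : ℂ) * ∑ i, c i = 0 := by
        linear_combination h1
      exact (mul_eq_zero.1 h2).resolve_left (by exact_mod_cast Nat.succ_ne_zero ((Finset.univ : Finset {lam // lam ∈ R}).card))
    intro j
    have := hpair j
    rwa [hsum, add_zero] at this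
  have hspan : Set.range v ⊆ (Submodule.span ℂ ((U.image (fun χ : Cfsg.IrrCharacter G => (χ : G → ℂ)) : Finset (G → ℂ)) : Set (G → ℂ)) : Set (G → ℂ)) := by
    rintro _ ⟨lam, rfl⟩
    have hdec := Characters.Complete.classFunction_eq_sum (pairChar_classFun (Q := Q) lam.1 μ)
    show pairChar Q lam.1 μ ∈ _
    rw [hdec]
    refine Submodule.sum_mem _ fun χ _ => ?_
    by_cases h0 : Cfsg.classInner (pairChar Q lam.1 μ) (χ : G → ℂ) = 0
    · rw [h0, zero_smul]; exact Submodule.zero_mem _
    · exact Submodule.smul_mem _ _ (Submodule.subset_span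
        (Finset.mem_coe.2 (Finset.mem_image_of_mem _ (hdegU lam.1 lam.2 χ h0))))
  have := linearIndependent_le_span' v hv _ hspan
  rw [Cardinal.mk_coe_finset, Nat.cast_le] at this
  exact le_trans (le_of_eq (Fintype.card_coe R).symm) (le_trans (by simpa using this) Finset.card_image_le)
where
  shared {lam lam₀ μ : Q →* ℂˣ} {ε : ℤ} {Y Y' Z : Cfsg.IrrCharacter G}
      (hinner : Cfsg.classInner (pairChar Q lam μ) (pairChar Q lam₀ μ) ≠ 0)
      (hYfun : pairChar Q lam μ = (ε : ℂ) • ((Y : G → ℂ) - (Y' : G → ℂ)))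
      (hdeg0 : ∀ χ : Cfsg.IrrCharacter G, Cfsg.classInner (pairChar Q lam₀ μ) (χ : G → ℂ) ≠ 0 →
        (χ : G → ℂ) 1 = (Z : G → ℂ) 1) : (Y : G → ℂ) 1 = (Z : G → ℂ) 1 := by
    have hYY : (Y : G → ℂ) 1 = (Y' : G → ℂ) 1 := by
      have := congrFun hYfun 1
      rw [pairChar_one] at this
      by_cases hε : (ε : ℂ) = 0
      · exfalso
        rw [hYfun, hε, zero_smul, classInner_zero_left] at hinner
        exact hinner rfl
      · simpa [hε, sub_eq_zero] using this.symm
    by_contra hne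
    apply hinner
    rw [hYfun, classInner_smul_left, classInner_sub_left,
      ← classInner_conj_symm (pairChar Q lam₀ μ) (Y : G → ℂ),
      ← classInner_conj_symm (pairChar Q lam₀ μ) (Y' : G → ℂ)]
    have h1 : Cfsg.classInner (pairChar Q lam₀ μ) (Y : G → ℂ) = 0 := by
      by_contra e; exact hne (hdeg0 Y e)
    have h2 : Cfsg.classInner (pairChar Q lam₀ μ) (Y' : G → ℂ) = 0 := by
      by_contra e; exact hne (hYY.trans (hdeg0 Y' e))
    rw [h1, h2]; simp

end Cfsg.Agent.Lib.BenderSuzuki.Abelian.Exceptional
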