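import Cfsg.Agent.Lib.BenderSuzuki.Abelian.Galois

/-!
# Pairs of involutions with product in an abelian kernel
-/

set_option autoImplicit false
set_option linter.unusedSectionVars false
set_option linter.style.haveILetI false
set_option linter.unusedSimpArgs false

namespace Cfsg.Agent.Lib.BenderSuzuki.Abelian.Pairs

open MulAction Cfsg.Agent.Lib.RankOne.Basic Cfsg.Agent.Lib.RankOne.Involution
open Cfsg.Agent.Lib.RankOne.Nilpotent
open Cfsg.Agent.Lib.BenderSuzuki Cfsg.Agent.Lib.BenderSuzuki.Abelian.Setup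
open Cfsg.Agent.Lib.BenderSuzuki.Abelian.Galois

universe u v

variable {G : Type u} {Ω : Type v} [Group G] [Finite G] [MulAction G Ω] {a : Ω} {t : G}
  {Q C : Subgroup G} (h : Ctx G Ω a t Q C)

include h

/-- The centraliser of `t` has the order of `Q C_D(s)`. -/
theorem card_centralizer {s : G} (hs : s ∈ invs G a) :
    Nat.card (Subgroup.centralizer ({t} : Set G)) = Nat.card Q * Nat.card (wGrp h s) := by
  have hS := h.setup
  obtain ⟨hsA, hs1⟩ := (mem_invs_iff h).1 hs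
  obtain ⟨g, hg⟩ := all_conj hS hs1 hsA.2 hS.ne_one hS.mul_self
  have e1 : Nat.card (Subgroup.centralizer ({s} : Set G)) = Nat.card (Subgroup.centralizer ({t} : Set G)) := by
    refine Nat.card_congr (Equiv.subtypeEquiv (MulAut.conj g).toEquiv fun x => ?_)
    rw [Subgroup.mem_centralizer_singleton_iff, Subgroup.mem_centralizer_singleton_iff]
    show x * s = s * x ↔ g * x * g⁻¹ * t = t * (g * x * g⁻¹)
    rw [← hg]
    constructor
    · intro e
      calc g * x * g⁻¹ * (g * s * g⁻¹) = g * (x * s) * g⁻¹ := by group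
        _ = g * (s * x) * g⁻¹ := by rw [e]
        _ = _ := by group
    · intro e
      calc x * s = g⁻¹ * (g * x * g⁻¹ * (g * s * g⁻¹)) * g := by group
        _ = g⁻¹ * (g * s * g⁻¹ * (g * x * g⁻¹)) * g := by rw [e]
        _ = s * x := by group
  rw [← e1, ← Nat.card_prod]
  symm
  refine Nat.card_congr (Equiv.ofBijective (fun p : Q × wGrp h s =>
    (⟨(p.1 : G) * p.2, ?_⟩ : Subgroup.centralizer ({s} : Set G))) ⟨?_, ?_⟩)
  · refine Subgroup.mem_centralizer_singleton_iff.2 ?_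
    calc (p.1 : G) * p.2 * s = p.1 * ((p.2 : G) * s * (p.2 : G)⁻¹) * p.2 := by group
      _ = (p.1 : G) * s * p.2 := by rw [((mem_wGrp h).1 p.2.2).2]
      _ = _ := by rw [h.comm _ p.1.2 s hsA.1]; group
  · intro p p' e
    obtain ⟨e1, e2⟩ := Q_D_unique hS p.1.2 p'.1.2 p.2.2.1 p'.2.2.1 (congrArg Subtype.val e)
    exact Prod.ext (Subtype.ext e1) (Subtype.ext e2)
  · rintro ⟨x, hx⟩
    rw [Subgroup.mem_centralizer_singleton_iff] at hx
    have hxa : x • a = a := involution_fix_a hS hs (by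
      rw [← mul_smul, ← hx, mul_smul, show s • a = a from hs.1])
    obtain ⟨z, hz, d, hd, rfl⟩ := exists_Q_D hS hxa
    have hdw : d * s * d⁻¹ = s := by
      calc d * s * d⁻¹ = z⁻¹ * (z * d * s) * d⁻¹ := by group
        _ = z⁻¹ * (s * (z * d)) * d⁻¹ := by rw [hx]
        _ = z⁻¹ * (s * z) := by group
        _ = s := by rw [h.comm s hsA.1 z hz]; group
    exact ⟨(⟨z, hz⟩, ⟨d, (mem_wGrp h).2 ⟨hd, hdw⟩⟩), rfl⟩

/-- The involution `u` of a pair with product in `Q - 1` lies in `Q`. -/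
theorem pair_mem {x : G} (hx : x ∈ Q) (hx1 : x ≠ 1) {a' b' : G}
    (e : a' * t * a'⁻¹ * (b' * t * b'⁻¹) = x) :
    a' * t * a'⁻¹ ∈ invs G a ∧ a' * t * a'⁻¹ * x = b' * t * b'⁻¹ ∧ x * x = 1 ∧ a' * t * a'⁻¹ ≠ x := by
  have hS := h.setup
  set u := a' * t * a'⁻¹ with hu
  set v := b' * t * b'⁻¹ with hv
  have hu2 : u * u = 1 := by
    rw [hu, show a' * t * a'⁻¹ * (a' * t * a'⁻¹) = a' * (t * t) * a'⁻¹ by group, hS.mul_self, mul_one,
      mul_inv_cancel]
  have hv2 : v * v = 1 := by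
    rw [hv, show b' * t * b'⁻¹ * (b' * t * b'⁻¹) = b' * (t * t) * b'⁻¹ by group, hS.mul_self, mul_one,
      mul_inv_cancel]
  have hu1 : u ≠ 1 := fun h1 => hS.ne_one (by simpa [hu] using h1)
  have hv1 : v ≠ 1 := fun h1 => hS.ne_one (by simpa [hv] using h1)
  have hua : u • a = a := by
    by_contra hne
    refine hx1 (Q_free hS hx hne ?_)
    have e1 : x * u = u * x⁻¹ := by
      rw [← e, mul_inv_rev, inv_eq_self_of_sq hu2, inv_eq_self_of_sq hv2, mul_assoc]
    rw [← mul_smul, e1, mul_smul, Q_inv_fix hS hx]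
  have huA : u ∈ invs G a := ⟨hua, hu1, hu2⟩
  have hux : u * x = v := by rw [← e, ← mul_assoc, hu2, one_mul]
  have huQ := ((mem_invs_iff h).1 huA).1
  refine ⟨huA, hux, ?_, fun e' => hv1 (by rw [← hux, ← e', hu2])⟩
  have hvA : v ∈ inv1 h := ⟨hux ▸ Q.mul_mem huQ.1 hx, hv2⟩
  exact e ▸ ((inv1 h).mul_mem huQ hvA).2

/-- No pair has product of order four or more. -/
theorem card_pairs_zero {x : G} (hx : x ∈ Q) (hx2 : x * x ≠ 1) :
    Nat.card {p : G × G // p.1 * t * p.1⁻¹ * (p.2 * t * p.2⁻¹) = x} = 0 := by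
  haveI : IsEmpty {p : G × G // p.1 * t * p.1⁻¹ * (p.2 * t * p.2⁻¹) = x} :=
    ⟨fun p => hx2 (pair_mem h hx (fun e => hx2 (by rw [e, mul_one])) p.2).2.2.1⟩
  exact Nat.card_of_isEmpty

/-- The pairs with product an involution of `Q`. -/
theorem card_pairs {x : G} (hx : x ∈ invs G a) :
    Nat.card {p : G × G // p.1 * t * p.1⁻¹ * (p.2 * t * p.2⁻¹) = x} =
      (qNum G a - 2) * Nat.card (Subgroup.centralizer ({t} : Set G)) ^ 2 := by
  classical
  have hS := h.setup
  obtain ⟨hxA, hx1⟩ := (mem_invs_iff h).1 hx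
  have hfib : ∀ u : G, u ≠ 1 → u * u = 1 →
      Nat.card {b : G // b * t * b⁻¹ = u} = Nat.card (Subgroup.centralizer ({t} : Set G)) := by
    intro u hu1 hu2
    obtain ⟨g, hg⟩ := all_conj hS hS.ne_one hS.mul_self hu1 hu2
    refine Nat.card_congr (Equiv.subtypeEquiv (Equiv.mulLeft g⁻¹) fun b => ?_)
    rw [Subgroup.mem_centralizer_singleton_iff, show Equiv.mulLeft g⁻¹ b = g⁻¹ * b from rfl, ← hg]
    constructor
    · intro e
      calc g⁻¹ * b * t = g⁻¹ * (b * t * b⁻¹) * b := by group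
        _ = _ := by rw [e]; group
    · intro e
      calc b * t * b⁻¹ = g * (g⁻¹ * b * t) * b⁻¹ := by group
        _ = _ := by rw [e]; group
  let U := {u : G // u ∈ invs G a ∧ u ≠ x}
  have hmulA : ∀ u : U, u.1 * x ≠ 1 ∧ u.1 * x * (u.1 * x) = 1 := fun u =>
    ⟨fun e => u.2.2 (by rw [eq_inv_of_mul_eq_one_left e, inv_eq_self_of_sq hxA.2]),
      ((inv1 h).mul_mem ((mem_invs_iff h).1 u.2.1).1 hxA).2⟩
  let eT : {p : G × G // p.1 * t * p.1⁻¹ * (p.2 * t * p.2⁻¹) = x} ≃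
      Σ u : U, {b : G // b * t * b⁻¹ = u.1} × {b : G // b * t * b⁻¹ = u.1 * x} :=
    { toFun := fun p => ⟨⟨_, (pair_mem h hxA.1 hx1 p.2).1, (pair_mem h hxA.1 hx1 p.2).2.2.2⟩,
        ⟨p.1.1, rfl⟩, ⟨p.1.2, (pair_mem h hxA.1 hx1 p.2).2.1.symm⟩⟩
      invFun := fun q => ⟨(q.2.1.1, q.2.2.1), by
        rw [q.2.1.2, q.2.2.2, ← mul_assoc, ((mem_invs_iff h).1 q.1.2.1).1.2, one_mul]⟩
      left_inv := fun p => rfl
      right_inv := fun q => by
        obtain ⟨⟨u, hu⟩, ⟨b, hb⟩, ⟨b', hb'⟩⟩ := q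
        simp only at hb
        subst hb
        rfl }
  letI := Fintype.ofFinite U
  have hU : Nat.card U = qNum G a - 2 := by
    have h1 : Nat.card U + 1 = Nat.card (invs G a) := by
      rw [← Finite.card_option (α := U)]
      refine Nat.card_congr ((Equiv.optionCongr ?_).trans (Equiv.optionSubtypeNe (⟨x, hx⟩ : invs G a)))
      exact { toFun := fun u => ⟨⟨u.1, u.2.1⟩, fun e => u.2.2 (congrArg Subtype.val e)⟩
              invFun := fun u => ⟨u.1.1, u.1.2, fun e => u.2 (Subtype.ext e)⟩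
              left_inv := fun _ => rfl
              right_inv := fun _ => rfl }
    rw [qNum]; omega
  rw [Nat.card_congr eT, Nat.card_sigma, Finset.sum_congr rfl fun u _ => by
    rw [Nat.card_prod, hfib u.1 u.2.1.2.1 u.2.1.2.2, hfib _ (hmulA u).1 (hmulA u).2],
    Finset.sum_const, Finset.card_univ, ← Nat.card_eq_fintype_card, smul_eq_mul, hU, sq]

end Cfsg.Agent.Lib.BenderSuzuki.Abelian.Pairs
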