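import Cfsg.Agent.Lib.BenderSuzuki.Abelian.Four
import Cfsg.Agent.Lib.BenderSuzuki.Abelian.Pairs
import Cfsg.Agent.Lib.BenderSuzuki.Abelian.Exceptional
import Cfsg.Agent.Lib.Zassenhaus.AbelianChars

/-!
# An abelian kernel that is a 2-group is elementary abelian

`PropAbelian` of the interface.
-/

set_option autoImplicit false
set_option linter.unusedSectionVars false
set_option linter.style.haveILetI false
set_option linter.unusedSimpArgs false

namespace Cfsg.Agent.Lib.BenderSuzuki.Abelian.Main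

open MulAction Cfsg.Agent.Lib.RankOne.Basic Cfsg.Agent.Lib.RankOne.Involution
open Cfsg.Agent.Lib.BenderSuzuki Cfsg.Agent.Lib.BenderSuzuki.Abelian.Setup
open Cfsg.Agent.Lib.BenderSuzuki.Abelian.Count Cfsg.Agent.Lib.BenderSuzuki.Abelian.Galois
open Cfsg.Agent.Lib.BenderSuzuki.Abelian.Exceptional
open Cfsg.Agent.Lib.Characters.Basic Cfsg.Agent.Lib.Induced.Basic
open scoped ComplexConjugate

universe u v

/-- The arithmetic at the end. -/
theorem arith {n e w N g : ℕ} (hn : 2 ≤ n) (he : 3 ≤ e) (hw : w ≤ n) (hN : 2 ≤ N)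
    (hcount : (2 ^ n) ^ e ≤ 2 * (N * ((2 ^ n - 1) * w))) (hg : g ∣ 2 ^ n - 2) (hg' : g ∣ (2 ^ n) ^ e + 1)
    (hmain : (2 ^ n - 1) * ((2 ^ n) ^ e + 1) * (N - 1) ≤ g ^ 2 * ((2 ^ n) ^ e * w)) : False := by
  obtain ⟨p, hp⟩ : ∃ p, 2 ^ n = p + 4 := ⟨2 ^ n - 4, by
    have : 2 ^ 2 ≤ 2 ^ n := Nat.pow_le_pow_right (by norm_num) hn
    omega⟩
  set q := 2 ^ n with hq
  set P := q ^ e with hP
  have hPpos : 0 < P := Nat.pow_pos (by omega)
  have hqsub : q - 2 ≠ 0 := by omega
  have hgle : g ≤ q - 2 := Nat.le_of_dvd (by omega) hg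
  have hgP : g ∣ 2 ^ e + 1 := by
    have h1 : q ≡ 2 [MOD g] := ((Nat.modEq_iff_dvd' (by omega)).2 hg).symm
    exact ((h1.pow e).add_right 1).dvd_iff (dvd_refl g) |>.1 hg'
  have hgpos : 0 < g := Nat.pos_of_dvd_of_pos hg (by omega)
  -- `q^e < 4 g² w²`
  have hkey : P < 4 * (g ^ 2 * (w * w)) := by
    have h1 : P ≤ 4 * ((N - 1) * ((q - 1) * w)) := by
      refine hcount.trans ?_
      calc 2 * (N * ((q - 1) * w)) ≤ 2 * ((2 * (N - 1)) * ((q - 1) * w)) :=
            Nat.mul_le_mul_left _ (Nat.mul_le_mul_right _ (by omega))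
        _ = _ := by ring
    have h2 : (q - 1) * P * (N - 1) < (q - 1) * (P + 1) * (N - 1) :=
      Nat.mul_lt_mul_of_pos_right (Nat.mul_lt_mul_of_pos_left (by omega) (by omega)) (by omega)
    have h3 : (q - 1) * (N - 1) < g ^ 2 * w := by
      refine Nat.lt_of_mul_lt_mul_left (a := P) ?_
      calc P * ((q - 1) * (N - 1)) = (q - 1) * P * (N - 1) := by ring
        _ < (q - 1) * (P + 1) * (N - 1) := h2
        _ ≤ g ^ 2 * (P * w) := hmain
        _ = P * (g ^ 2 * w) := by ring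
    have hw0 : 0 < w := by
      rcases Nat.eq_zero_or_pos w with hw0 | hw0
      · simp [hw0] at h1; omega
      · exact hw0
    calc P ≤ 4 * ((N - 1) * ((q - 1) * w)) := h1
      _ = 4 * ((q - 1) * (N - 1)) * w := by ring
      _ < 4 * (g ^ 2 * w) * w := Nat.mul_lt_mul_of_pos_right (by omega) hw0
      _ = _ := by ring
  have hww : w * w ≤ n * n := Nat.mul_le_mul hw hw
  rcases lt_or_ge e 4 with he3 | he4
  · -- `e = 3`
    obtain rfl : e = 3 := by omega
    have h9 : g ∣ 9 := by simpa using hgP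
    have hsmall : n ≤ 4 → False := by
      intro hn4
      have hg2 : g ∣ Nat.gcd (q - 2) 9 := Nat.dvd_gcd hg h9
      rw [hP] at hkey
      interval_cases n
      · norm_num [hq] at hg2 hkey
        subst hg2
        nlinarith
      · norm_num [hq] at hg2 hkey
        have := Nat.le_of_dvd (by norm_num) hg2
        have : g ^ 2 * (w * w) ≤ 3 ^ 2 * (3 * 3) := Nat.mul_le_mul (Nat.pow_le_pow_left this 2) hww
        omega
      · norm_num [hq] at hg2 hkey
        subst hg2
        nlinarith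
    rcases Nat.lt_or_ge n 5 with hn5 | hn5
    · exact hsmall (by omega)
    have h81 : g ^ 2 * (w * w) ≤ 81 * (n * n) :=
      Nat.mul_le_mul (by nlinarith [Nat.le_of_dvd (by norm_num) h9]) hww
    have hbig : ∀ m, 5 ≤ m → 324 * (m * m) ≤ (2 ^ m) ^ 3 := by
      intro m hm
      induction m, hm using Nat.le_induction with
      | base => norm_num
      | succ m hm ih =>
        rw [show (2 ^ (m + 1)) ^ 3 = 8 * (2 ^ m) ^ 3 by ring]
        nlinarith
    have := hbig n hn5
    rw [hP, hq] at hkey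
    omega
  · have h1 : g ^ 2 * (w * w) ≤ q ^ 2 * (n * n) := Nat.mul_le_mul (Nat.pow_le_pow_left (by omega) 2) hww
    have h2 : q ^ 4 ≤ P := hP ▸ Nat.pow_le_pow_right (by omega) he4
    have hn2 : ∀ m, 2 ≤ m → 2 * m ≤ 2 ^ m := by
      intro m hm
      induction m, hm using Nat.le_induction with
      | base => norm_num
      | succ m hm ih => rw [pow_succ]; omega
    have h3 : 4 * (n * n) ≤ q ^ 2 := by
      calc 4 * (n * n) = (2 * n) ^ 2 := by ring
        _ ≤ q ^ 2 := Nat.pow_le_pow_left (hn2 n hn) 2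
    have : 4 * (q ^ 2 * (n * n)) ≤ q ^ 4 := by
      calc 4 * (q ^ 2 * (n * n)) = q ^ 2 * (4 * (n * n)) := by ring
        _ ≤ q ^ 2 * q ^ 2 := Nat.mul_le_mul_left _ h3
        _ = _ := by ring
    omega

variable {G : Type u} {Ω : Type v} [Group G] [Finite G] [MulAction G Ω] {a : Ω} {t : G}
  {Q C : Subgroup G}

theorem trivA_tw (h : Ctx G Ω a t Q C) (d : twoStab G a t) {lam : Q →* ℂˣ} (hl : TrivA h lam) :
    TrivA h (tw h d lam) :=
  fun x hx => hl _ (inv1_conj h d.2 hx)

/-- No abelian kernel of exponent above four. -/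
theorem card_lt (h : Ctx G Ω a t Q C) {e : ℕ} (hQ : Nat.card Q = qNum G a ^ e) : e < 3 := by
  classical
  by_contra hlt
  have he : 3 ≤ e := by omega
  have hS := h.setup
  letI := Fintype.ofFinite G
  letI := Fintype.ofFinite Q
  letI := Fintype.ofFinite (twoStab G a t)
  letI := Fintype.ofFinite (Cfsg.IrrCharacter G)
  letI : CommGroup Q := { (inferInstance : Group Q) with
    mul_comm := fun x y => Subtype.ext (h.comm x x.2 y y.2) }
  obtain ⟨eqQ⟩ := CommGroup.monoidHom_mulEquiv_of_hasEnoughRootsOfUnity Q ℂ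
  haveI : Finite (Q →* ℂˣ) := Finite.of_equiv _ eqQ.symm.toEquiv
  letI := Fintype.ofFinite (Q →* ℂˣ)
  obtain ⟨s, hs⟩ := RankOne.Basic.exists_involution hS
  obtain ⟨hsA, hs1⟩ := (mem_invs_iff h).1 hs
  obtain ⟨n, hn, hqn⟩ := exists_qNum_eq h
  obtain ⟨lam₀, μ, hl₀, hlT, hμ, hμT, hcnt⟩ := exists_free h he hQ hn hqn hs
  set q := qNum G a with hqdef
  set w := Nat.card (wGrp h s) with hwdef
  have hwn : w ≤ n := (galois_bounds h hs hn hqn).1
  have hq4 := four_le_qNum h
  have hDcard : Nat.card (twoStab G a t) = (q - 1) * w := by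
    rw [card_D h hs, ← hwdef]
    congr 1
    have := card_C h; omega
  have hwpos : 0 < w := Nat.card_pos
  -- orbit representatives
  let orb : (Q →* ℂˣ) → Finset (Q →* ℂˣ) := fun lam => Finset.univ.image fun d => tw h d lam
  set Fr := Finset.univ.filter fun lam : Q →* ℂˣ => IsFree h lam with hFr
  set O := Fr.image orb with hO
  have hmemorb : ∀ lam, lam ∈ orb lam := fun lam =>
    Finset.mem_image.2 ⟨1, Finset.mem_univ _, tw_one h lam⟩
  have hfib : Fr.card ≤ O.card * Nat.card (twoStab G a t) := by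
    have hsub : Fr ⊆ O.biUnion id := fun lam hlam =>
      Finset.mem_biUnion.2 ⟨orb lam, Finset.mem_image_of_mem _ hlam, hmemorb lam⟩
    refine (Finset.card_le_card hsub).trans (Finset.card_biUnion_le_card_mul _ _ _ fun S hS' => ?_)
    obtain ⟨lam, -, rfl⟩ := Finset.mem_image.1 hS'
    exact Finset.card_image_le.trans (le_of_eq (by rw [Finset.card_univ, Nat.card_eq_fintype_card]))
  choose rep hrep using fun S : {S // S ∈ O} => Finset.mem_image.1 S.2
  have hne_tw : ∀ {l l' : Q →* ℂˣ} (d : twoStab G a t), l = tw h d l' → orb l = orb l' := by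
    intro l l' d e
    subst e
    ext x
    simp only [orb, Finset.mem_image, Finset.mem_univ, true_and]
    constructor
    · rintro ⟨d', rfl⟩; exact ⟨d * d', (tw_mul h d d' l')⟩
    · rintro ⟨d', rfl⟩
      exact ⟨d⁻¹ * d', by rw [← tw_mul h, mul_inv_cancel_left]⟩
  set R := (Finset.univ.image rep).filter fun l => orb l ≠ orb μ with hR
  have hrep_inj : Function.Injective rep := fun S S' e => Subtype.ext (by
    rw [← (hrep S).2, ← (hrep S').2, e])
  have hRcard : O.card ≤ R.card + 1 := by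
    have h1 : (Finset.univ.image rep).card = O.card := by
      rw [Finset.card_image_of_injective _ hrep_inj, Finset.card_univ, Fintype.card_coe]
    have h2 : ((Finset.univ.image rep).filter fun l => ¬ orb l ≠ orb μ).card ≤ 1 := by
      refine Finset.card_le_one.2 fun l hl l' hl' => ?_
      simp only [Finset.mem_filter, Finset.mem_image, Finset.mem_univ, true_and, not_not] at hl hl'
      obtain ⟨⟨S, rfl⟩, e1⟩ := hl
      obtain ⟨⟨S', rfl⟩, e2⟩ := hl'
      rw [Subtype.ext ((hrep S).2.symm.trans (e1.trans (e2.symm.trans (hrep S').2))) (a2 := S')]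
    have := Finset.card_filter_add_card_filter_not (s := Finset.univ.image rep) (fun l => orb l ≠ orb μ)
    rw [← hR, h1] at this
    omega
  have hRfree : ∀ lam ∈ R, IsFree h lam ∧ ∀ d, lam ≠ tw h d μ := by
    intro lam hlam
    obtain ⟨hl, hne⟩ := Finset.mem_filter.1 hlam
    obtain ⟨S, -, rfl⟩ := Finset.mem_image.1 hl
    exact ⟨(Finset.mem_filter.1 (hrep S).1).2, fun d e => hne (hne_tw d e)⟩
  have hRR : ∀ lam ∈ R, ∀ lam' ∈ R, lam ≠ lam' → ∀ d, lam ≠ tw h d lam' := by
    intro lam hlam lam' hlam' hne d e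
    obtain ⟨S, -, rfl⟩ := Finset.mem_image.1 (Finset.mem_filter.1 hlam).1
    obtain ⟨S', -, rfl⟩ := Finset.mem_image.1 (Finset.mem_filter.1 hlam').1
    exact hne (congrArg rep (Subtype.ext ((hrep S).2.symm.trans ((hne_tw d e).trans (hrep S').2))))
  have hne₀ : ∀ d, lam₀ ≠ tw h d μ := fun d e => hμT (by
    have : μ = tw h d⁻¹ lam₀ := by rw [e, ← tw_mul h, mul_inv_cancel, tw_one h]
    rw [this]; exact trivA_tw h _ hlT)
  obtain ⟨ε, X, X', -, hε, hdeg, hXi, hX'i, hX0, hXfun⟩ := constituents h hl₀ hμ hne₀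
  obtain ⟨k, hkpos, hk⟩ := exists_degree_pos X
  have hXne : Cfsg.classInner (pairChar Q lam₀ μ) (X : G → ℂ) ≠ 0 := by
    rw [hXi]; rcases hε with rfl | rfl <;> norm_num
  have hU := many_of_degree h hμ R hRfree hRR hl₀ hne₀ hXne
  -- sum of squares of the degrees
  have hsq : R.card * k ^ 2 ≤ Nat.card G := by
    set U := Finset.univ.filter fun χ : Cfsg.IrrCharacter G => (χ : G → ℂ) 1 = (X : G → ℂ) 1
    choose dg hdg hdgv using fun χ : Cfsg.IrrCharacter G => exists_degree_pos χ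
    have hsum : ∑ χ : Cfsg.IrrCharacter G, dg χ ^ 2 = Nat.card G := by
      apply Nat.cast_injective (R := ℂ)
      have h1 := Characters.Complete.sum_degree_mul_apply (G := G) (1 : G)
      simp only [if_pos] at h1
      rw [← h1, Nat.cast_sum]
      exact Finset.sum_congr rfl fun χ _ => by rw [Nat.cast_pow, hdgv, sq]
    calc R.card * k ^ 2 ≤ U.card * k ^ 2 := Nat.mul_le_mul_right _ hU
      _ = ∑ χ ∈ U, dg χ ^ 2 := by
          rw [← smul_eq_mul, ← Finset.sum_const]
          refine Finset.sum_congr rfl fun χ hχ => ?_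
          have e1 : (dg χ : ℂ) = k := by rw [← hdgv, (Finset.mem_filter.1 hχ).2, hk]
          rw [Nat.cast_injective e1]
      _ ≤ ∑ χ, dg χ ^ 2 := Finset.sum_le_sum_of_subset (Finset.subset_univ _)
      _ = Nat.card G := hsum
  -- the value at the involutions
  have hlam_sum : ∑ x ∈ (Finset.univ : Finset Q).filter (fun x : Q => (x : G) ∈ inv1 h ∧ x ≠ 1),
      ((lam₀ x : ℂ) - (μ x : ℂ)) = (q : ℂ) := by
    set A1 := (Finset.univ : Finset Q).filter fun x : Q => (x : G) ∈ inv1 h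
    have hsplit : (Finset.univ : Finset Q).filter (fun x : Q => (x : G) ∈ inv1 h ∧ x ≠ 1) = A1.erase 1 := by
      ext x; simp [A1, and_comm]
    rw [hsplit, Finset.sum_erase _ (by simp)]
    rw [Finset.sum_sub_distrib]
    have hA1 : A1.card = q := by
      rw [hqdef, ← card_inv1 h, ← Fintype.card_subtype, ← Nat.card_eq_fintype_card]
      exact Nat.card_congr
        { toFun := fun x => ⟨(x.1 : G), x.2⟩
          invFun := fun x => ⟨⟨x.1, x.2.1⟩, x.2⟩
          left_inv := fun _ => rfl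
          right_inv := fun _ => rfl }
    have h1 : ∑ x ∈ A1, (lam₀ x : ℂ) = (q : ℂ) := by
      rw [Finset.sum_congr rfl fun x hx => by rw [hlT x (Finset.mem_filter.1 hx).2],
        Finset.sum_const, hA1, nsmul_eq_mul, Units.val_one, mul_one]
    have h2 : ∑ x ∈ A1, (μ x : ℂ) = 0 := by
      obtain ⟨y, hy⟩ := not_forall.1 hμT
      obtain ⟨hyA, hy1⟩ := Classical.not_imp.1 hy
      have hshift : ∑ x ∈ A1, (μ x : ℂ) = (μ y : ℂ) * ∑ x ∈ A1, (μ x : ℂ) := by
        conv_rhs => rw [Finset.mul_sum]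
        refine Finset.sum_bij' (fun x _ => y⁻¹ * x) (fun x _ => y * x) ?_ ?_ ?_ ?_ ?_
        · intro x hx
          simp only [A1, Finset.mem_filter, Finset.mem_univ, true_and] at hx ⊢
          exact (inv1 h).mul_mem ((inv1 h).inv_mem hyA) hx
        · intro x hx
          simp only [A1, Finset.mem_filter, Finset.mem_univ, true_and] at hx ⊢
          exact (inv1 h).mul_mem hyA hx
        · intro x _; simp
        · intro x _; simp
        · intro x _
          rw [← Units.val_mul, ← map_mul, mul_inv_cancel_left]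
      have : ((μ y : ℂ) - 1) * ∑ x ∈ A1, (μ x : ℂ) = 0 := by linear_combination (-1 : ℂ) * hshift
      refine (mul_eq_zero.1 this).resolve_left fun e' => hy1 (Units.ext ?_)
      rw [Units.val_one]; exact sub_eq_zero.1 e'
    rw [h1, h2, sub_zero]
  -- `Φ(t) = w q`
  have hPhit : pairChar Q lam₀ μ t = (w : ℂ) * q := by
    obtain ⟨g, hg⟩ := all_conj hS hs1 hsA.2 hS.ne_one hS.mul_self
    rw [← hg, pairChar_classFun (Q := Q) lam₀ μ s g]
    set s' : Q := ⟨s, hsA.1⟩
    rw [show s = (s' : G) from rfl, pairChar, indFun_kernel h _ (fun e => hs1 (congrArg Subtype.val e))]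
    rw [← hlam_sum, Finset.mul_sum]
    refine (Finset.sum_fiberwise_of_maps_to (g := fun d => conjQ h d s')
      (t := (Finset.univ : Finset Q).filter fun x : Q => (x : G) ∈ inv1 h ∧ x ≠ 1) (fun d _ => ?_) _).symm.trans ?_
    · refine Finset.mem_filter.2 ⟨Finset.mem_univ _, inv1_conj h d.2 hsA, fun e => hs1 ?_⟩
      have : (d : G) * s * (d : G)⁻¹ = 1 := congrArg Subtype.val e
      simpa using this
    refine Finset.sum_congr rfl fun y hy => ?_
    obtain ⟨hyA, hy1⟩ := (Finset.mem_filter.1 hy).2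
    rw [Finset.sum_congr rfl fun d hd => by rw [(Finset.mem_filter.1 hd).2], Finset.sum_const,
      nsmul_eq_mul]
    congr 2
    rw [← Fintype.card_subtype, ← Nat.card_eq_fintype_card, hwdef]
    obtain ⟨c, ⟨hc, hcy⟩, -⟩ := existsUnique_C h hs
      ((mem_invs_iff h).2 ⟨hyA, fun e => hy1 (Subtype.ext e)⟩)
    refine Nat.card_congr
      { toFun := fun d => ⟨c⁻¹ * (d.1 : G), (mem_wGrp h).2 ⟨(twoStab G a t).mul_mem
          ((twoStab G a t).inv_mem (C_le h hc)) d.1.2, ?_⟩⟩
        invFun := fun x => ⟨⟨c * (x : G), (twoStab G a t).mul_mem (C_le h hc) x.2.1⟩, Subtype.ext ?_⟩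
        left_inv := fun d => Subtype.ext (Subtype.ext (mul_inv_cancel_left c _))
        right_inv := fun x => Subtype.ext (inv_mul_cancel_left c _) }
    · have hd' : (d.1 : G) * s * (d.1 : G)⁻¹ = y := congrArg Subtype.val d.2
      calc c⁻¹ * (d.1 : G) * s * (c⁻¹ * (d.1 : G))⁻¹ = c⁻¹ * ((d.1 : G) * s * (d.1 : G)⁻¹) * c := by group
        _ = s := by rw [hd', ← hcy]; group
    · show c * (x : G) * s * (c * (x : G))⁻¹ = y
      calc c * (x : G) * s * (c * (x : G))⁻¹ = c * ((x : G) * s * (x : G)⁻¹) * c⁻¹ := by group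
        _ = y := by rw [((mem_wGrp h).1 x.2).2, hcy]
  -- the pair count
  set cent := Nat.card (Subgroup.centralizer ({t} : Set G)) with hcent
  set Fn : G → ℂ := fun g => (Nat.card {p : G × G // p.1 * t * p.1⁻¹ * (p.2 * t * p.2⁻¹) = g} : ℂ)
  have hFsum : ∀ g, Fn g = (Nat.card G : ℂ) * ∑ χ : Cfsg.IrrCharacter G,
      (χ : G → ℂ) t * (χ : G → ℂ) t * conj ((χ : G → ℂ) g) / (χ : G → ℂ) 1 :=
    fun g => Zassenhaus.AbelianChars.pairs_sum t g
  have hFcf : Cfsg.IsClassFunction G Fn := by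
    intro g g'
    rw [hFsum, hFsum]
    congr 1
    exact Finset.sum_congr rfl fun χ _ => by rw [isClassFunction_irr χ g g']
  have hleft : ∑ g : G, pairChar Q lam₀ μ g * Fn g =
      (Q.index : ℂ) * ((q : ℂ) * (((q - 2) * cent ^ 2 : ℕ) : ℂ)) := by
    rw [pairChar, sum_indFun_mul _ _ hFcf]
    congr 1
    rw [← hlam_sum, Finset.sum_mul, Finset.sum_filter]
    refine Finset.sum_congr rfl fun x _ => ?_
    split_ifs with hx
    · show _ * Fn x = _
      simp only [Fn]
      rw [Pairs.card_pairs h ((mem_invs_iff h).2 ⟨hx.1, fun e' => hx.2 (Subtype.ext e')⟩)]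
    · by_cases hx1 : x = 1
      · subst hx1; simp
      · simp only [Fn]
        rw [Pairs.card_pairs_zero h x.2 fun e' => hx ⟨⟨x.2, e'⟩, hx1⟩]
        simp
  have hint : ∀ χ : Cfsg.IrrCharacter G, ∑ g : G, pairChar Q lam₀ μ g * conj ((χ : G → ℂ) g) =
      (Nat.card G : ℂ) * Cfsg.classInner (pairChar Q lam₀ μ) (χ : G → ℂ) := fun χ => by
    rw [Cfsg.classInner, ← mul_assoc, mul_inv_cancel₀ (natCard_ne_zero (G := G)), one_mul]
  have hright : ∑ g : G, pairChar Q lam₀ μ g * Fn g = (Nat.card G : ℂ) * (Nat.card G : ℂ) *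
      ((ε : ℂ) * ((X : G → ℂ) t * (X : G → ℂ) t - (X' : G → ℂ) t * (X' : G → ℂ) t) / (k : ℂ)) := by
    simp only [hFsum, Finset.mul_sum]
    rw [Finset.sum_comm]
    have h1 : ∀ χ : Cfsg.IrrCharacter G, ∑ g : G, pairChar Q lam₀ μ g * ((Nat.card G : ℂ) *
        ((χ : G → ℂ) t * (χ : G → ℂ) t * conj ((χ : G → ℂ) g) / (χ : G → ℂ) 1)) =
        (Nat.card G : ℂ) * (Nat.card G : ℂ) * ((χ : G → ℂ) t * (χ : G → ℂ) t / (χ : G → ℂ) 1 *
          Cfsg.classInner (pairChar Q lam₀ μ) (χ : G → ℂ)) := by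
      intro χ
      rw [show (Nat.card G : ℂ) * (Nat.card G : ℂ) * ((χ : G → ℂ) t * (χ : G → ℂ) t / (χ : G → ℂ) 1 *
          Cfsg.classInner (pairChar Q lam₀ μ) (χ : G → ℂ)) = ((Nat.card G : ℂ) * ((χ : G → ℂ) t *
          (χ : G → ℂ) t / (χ : G → ℂ) 1)) * ((Nat.card G : ℂ) *
          Cfsg.classInner (pairChar Q lam₀ μ) (χ : G → ℂ)) by ring, ← hint χ, Finset.mul_sum]
      exact Finset.sum_congr rfl fun g _ => by ring
    have hXX' : X ≠ X' := fun e' => by
      rw [e', hX'i] at hXi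
      rcases hε with rfl | rfl <;> norm_num at hXi
    rw [Finset.sum_congr rfl fun χ _ => h1 χ, ← Finset.mul_sum,
      ← Finset.sum_subset (Finset.subset_univ {X, X'}) (fun χ _ hχ => by
        simp only [Finset.mem_insert, Finset.mem_singleton, not_or] at hχ
        rw [hX0 χ hχ.1 hχ.2, mul_zero]), Finset.sum_pair hXX', hXi, hX'i, ← hdeg, hk]
    ring
  set Sm : ℂ := (X : G → ℂ) t + (X' : G → ℂ) t with hSm
  have hdiff : (ε : ℂ) * ((X : G → ℂ) t - (X' : G → ℂ) t) = (w : ℂ) * q := by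
    rw [← hPhit, hXfun]; simp
  set M := (q - 1) * (Nat.card Q + 1) with hM
  have hGc : Nat.card G = Nat.card Q * ((q - 1) * w) * (Nat.card Q + 1) := by
    rw [card_group hS, hDcard]
  have hcentv : cent = Nat.card Q * w := Pairs.card_centralizer h hs
  have hmul : (M : ℂ) * Sm = ((k * (q - 2) : ℕ) : ℂ) := by
    have hk0 : (k : ℂ) ≠ 0 := Nat.cast_ne_zero.2 hkpos.ne'
    have hmid : (ε : ℂ) * ((X : G → ℂ) t * (X : G → ℂ) t - (X' : G → ℂ) t * (X' : G → ℂ) t) =
        (w : ℂ) * q * Sm := by rw [← hdiff, hSm]; ring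
    have heq := hleft.symm.trans hright
    rw [hmid, ← mul_div_assoc, eq_div_iff hk0] at heq
    have hidx : (Q.index : ℂ) * (Nat.card Q : ℂ) = (Nat.card G : ℂ) := by
      rw [mul_comm]; exact_mod_cast Q.card_mul_index
    have hQ0 : (Nat.card Q : ℂ) ≠ 0 := natCard_ne_zero
    have hG0 : (Nat.card G : ℂ) ≠ 0 := natCard_ne_zero
    have hG' : (Nat.card G : ℂ) = (Nat.card Q : ℂ) * (w : ℂ) * (M : ℂ) := by
      rw [hGc, hM]; push_cast; ring
    have hc2 : (((q - 2) * cent ^ 2 : ℕ) : ℂ) = ((q - 2 : ℕ) : ℂ) * ((Nat.card Q : ℂ) * w) ^ 2 := by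
      rw [hcentv]; push_cast; ring
    rw [hc2] at heq
    push_cast
    have hw0 : (w : ℂ) ≠ 0 := Nat.cast_ne_zero.2 hwpos.ne'
    have hq0 : (q : ℂ) ≠ 0 := Nat.cast_ne_zero.2 (by omega)
    refine mul_left_cancel₀ (mul_ne_zero (mul_ne_zero (mul_ne_zero (mul_ne_zero hG0 hq0) hw0) hw0) hQ0) ?_
    have e' : (Nat.card G : ℂ) * q * w * w * (Nat.card Q : ℂ) * ((k : ℂ) * ((q - 2 : ℕ) : ℂ)) =
        (Q.index : ℂ) * ((q : ℂ) * (((q - 2 : ℕ) : ℂ) * ((Nat.card Q : ℂ) * w) ^ 2)) * (k : ℂ) := by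
      rw [← hidx]; ring
    rw [e', heq]
    conv_rhs => arg 1; arg 2; rw [hG']
    ring
  have hSmInt : IsIntegral ℤ Sm :=
    (isIntegral_apply (isCharacter_irr X) t).add (isIntegral_apply (isCharacter_irr X') t)
  obtain ⟨j, hj⟩ := Zassenhaus.AbelianChars.exists_int_of_mul_eq hSmInt (d := (M : ℤ))
    (Int.natCast_ne_zero.2 (Nat.mul_pos (by omega) (by omega)).ne') (m := ((k * (q - 2) : ℕ) : ℤ))
    (by exact_mod_cast hmul)
  have hdvd : M ∣ k * (q - 2) := by
    rw [hj] at hmul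
    have : (M : ℤ) * j = ((k * (q - 2) : ℕ) : ℤ) := by exact_mod_cast hmul
    exact Int.natCast_dvd_natCast.1 ⟨j, this.symm⟩
  set g := Nat.gcd (q - 2) M with hg
  have hMk : M ≤ k * g := by
    have : M ∣ k * g := by
      rw [hg, ← Nat.gcd_mul_left]; exact Nat.dvd_gcd hdvd (dvd_mul_left M k)
    exact Nat.le_of_dvd (Nat.mul_pos hkpos (Nat.gcd_pos_of_pos_left _ (by omega))) this
  have hgQ : g ∣ Nat.card Q + 1 := by
    refine (Nat.Coprime.dvd_mul_left ?_).1 (Nat.gcd_dvd_right (q - 2) M)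
    refine Nat.Coprime.coprime_dvd_left (Nat.gcd_dvd_left _ _) ?_
    have : q - 1 = q - 2 + 1 := by omega
    rw [this]
    exact (Nat.coprime_self_add_right).2 (Nat.coprime_one_right _)
  have hcount : q ^ e ≤ 2 * (O.card * ((q - 1) * w)) := by
    rw [← hDcard]
    refine hcnt.trans (Nat.mul_le_mul_left _ ?_)
    rw [Nat.card_eq_fintype_card, Fintype.card_subtype]
    exact hfib
  have hN : 2 ≤ O.card := by
    have hl : orb lam₀ ∈ O := Finset.mem_image_of_mem _ (by simp [Fr, hl₀])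
    have hm : orb μ ∈ O := Finset.mem_image_of_mem _ (by simp [Fr, hμ])
    refine Finset.one_lt_card.2 ⟨_, hl, _, hm, fun e' => ?_⟩
    have := hmemorb lam₀
    rw [e'] at this
    obtain ⟨d, -, hd⟩ := Finset.mem_image.1 this
    exact hne₀ d hd.symm
  have hmain : M * (O.card - 1) ≤ g ^ 2 * (Nat.card Q * w) := by
    have h1 : M ^ 2 * (O.card - 1) ≤ g ^ 2 * Nat.card G := by
      calc M ^ 2 * (O.card - 1) ≤ (k * g) ^ 2 * R.card :=
            Nat.mul_le_mul (Nat.pow_le_pow_left hMk 2) (by omega)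
        _ = g ^ 2 * (R.card * k ^ 2) := by ring
        _ ≤ _ := Nat.mul_le_mul_left _ hsq
    refine Nat.le_of_mul_le_mul_left ?_ (show 0 < M from Nat.mul_pos (by omega) (by omega))
    calc M * (M * (O.card - 1)) = M ^ 2 * (O.card - 1) := by ring
      _ ≤ g ^ 2 * Nat.card G := h1
      _ = _ := by rw [hGc, hM]; ring
  rw [hM, hQ] at hmain
  rw [hQ] at hgQ
  have hg2 : g ∣ q - 2 := Nat.gcd_dvd_left _ _
  simp only [hqn] at hcount hmain hgQ hg2
  exact arith hn he hwn hN hcount hg2 hgQ hmain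

/-- §5: an abelian 2-group `Q` is elementary abelian. -/
theorem propAbelian : PropAbelian.{u, v} := by
  intro G Ω _ _ _ a t Q hH hp hc
  obtain ⟨C, h⟩ := exists_ctx hH hp hc
  obtain ⟨e, he, hQ⟩ := exists_exponent h
  have h3 := card_lt h hQ
  have h2 := Four.not_card_sq h
  obtain rfl : e = 1 := by
    by_contra h1
    obtain rfl : e = 2 := by omega
    exact h2 hQ
  rw [hQ, pow_one]

end Cfsg.Agent.Lib.BenderSuzuki.Abelian.Main
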