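import Mathlib

/-!
# The algebra behind "a homocyclic kernel of exponent 4 is impossible"

`R` is a commutative ring with `4 = 0` whose elements outside `2 R` are congruent modulo `2 R` to
exactly one element of the group `T` of units (the Teichmüller representatives).  `P x f c` stands
for "`t x t = g c t f`"; the axioms are the identities of the rank-one set-up.
-/

set_option autoImplicit false

namespace Cfsg.Agent.Lib.BenderSuzuki.Abelian.Alg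

variable {R : Type*} [CommRing R]

/-- Teichmüller data: `τ : T →* R` with `T` of exponent dividing `2 ^ n - 1`. -/
structure TData (R : Type*) [CommRing R] (T : Type*) [CommGroup T] where
  n : ℕ
  hn : 2 ≤ n
  τ : T →* R
  four : (4 : R) = 0
  not_two_dvd : ∀ c : T, ¬ (2 : R) ∣ τ c
  exhaust : ∀ x : R, ¬ (2 : R) ∣ x → ∃ c : T, (2 : R) ∣ x - τ c
  pow_q : ∀ c : T, c ^ 2 ^ n = c
  inj : ∀ c d : T, (2 : R) ∣ τ c - τ d → c = d
  three : ∀ c : T, ∃ d : T, d ≠ 1 ∧ d ≠ c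

theorem two_mul_two (h : (4 : R) = 0) (x : R) : 2 * (2 * x) = 0 := by
  linear_combination x * h

theorem two_mul_congr (h : (4 : R) = 0) {x y : R} (hd : (2 : R) ∣ x - y) : 2 * x = 2 * y := by
  obtain ⟨z, hz⟩ := hd
  linear_combination 2 * hz + z * h

/-- Iterated squaring of a sum modulo 4. -/
theorem add_pow_two_pow (h : (4 : R) = 0) (a b : R) (j : ℕ) :
    (a + b) ^ 2 ^ (j + 1) = a ^ 2 ^ (j + 1) + b ^ 2 ^ (j + 1) + 2 * (a ^ 2 ^ j * b ^ 2 ^ j) := by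
  induction j with
  | zero => simp only [zero_add, pow_zero, pow_one]; ring
  | succ j ih =>
    rw [pow_succ 2 (j + 1), pow_mul, ih, pow_mul a, pow_mul b]
    linear_combination ((a ^ 2 ^ j * b ^ 2 ^ j) ^ 2 + (a ^ 2 ^ (j + 1) + b ^ 2 ^ (j + 1)) * (a ^ 2 ^ j * b ^ 2 ^ j)) * h

variable {T : Type*} [CommGroup T] (D : TData R T)

theorem TData.τ_inv (c : T) : D.τ c * D.τ c⁻¹ = 1 := by
  rw [← map_mul, mul_inv_cancel, map_one]

theorem TData.τ_inv' (c : T) : D.τ c⁻¹ * D.τ c = 1 := by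
  rw [← map_mul, inv_mul_cancel, map_one]

/-- The square root in `T`. -/
theorem TData.sq_half (c : T) : (c ^ 2 ^ (D.n - 1)) ^ 2 = c := by
  rw [← pow_mul, ← pow_succ, show D.n - 1 + 1 = D.n by have := D.hn; omega, D.pow_q]

/-- The sum of two Teichmüller representatives. -/
theorem TData.sum_eq (a b : T) (h : ¬ (2 : R) ∣ D.τ a + D.τ b) :
    ∃ m : T, D.τ m = D.τ a + D.τ b + 2 * D.τ (a ^ 2 ^ (D.n - 1) * b ^ 2 ^ (D.n - 1)) := by
  obtain ⟨m, z, hz⟩ := D.exhaust _ h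
  refine ⟨m, ?_⟩
  obtain ⟨j, hj⟩ : ∃ j, D.n = j + 1 := ⟨D.n - 1, by have := D.hn; omega⟩
  have hq : ∀ c : T, D.τ c ^ 2 ^ (j + 1) = D.τ c := fun c => by rw [← map_pow, ← hj, D.pow_q]
  have h1 := add_pow_two_pow D.four (D.τ a) (D.τ b) j
  have h2 : (D.τ a + D.τ b) ^ 2 ^ (j + 1) = D.τ m := by
    have hm : D.τ a + D.τ b = D.τ m + 2 * z := by linear_combination hz
    rw [hm, add_pow_two_pow D.four, hq]
    have hz0 : (2 * z : R) ^ 2 ^ (j + 1) = 0 := by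
      rw [pow_succ', pow_mul, show (2 * z : R) ^ 2 = 0 by linear_combination z ^ 2 * D.four,
        zero_pow (Nat.two_pow_pos j).ne']
    have hz1 : (2 : R) * (D.τ m ^ 2 ^ j * (2 * z) ^ 2 ^ j) = 0 := by
      obtain ⟨i, hi⟩ : ∃ i, 2 ^ j = i + 1 := ⟨2 ^ j - 1, (Nat.sub_add_cancel (Nat.two_pow_pos j)).symm⟩
      rw [hi, pow_succ (2 * z)]
      linear_combination (D.τ m ^ (i + 1) * (2 * z) ^ i * z) * D.four
    rw [hz0, hz1, add_zero, add_zero]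
  rw [h2, hq, hq] at h1
  rw [map_mul, map_pow, map_pow, show D.n - 1 = j by omega]
  exact h1

/-- The axioms of the rank-one set-up on an exponent 4 kernel. -/
structure Rules (P : R → R → T → Prop) (ρ : T) : Prop where
  base : ∀ c : T, P (2 * D.τ (ρ * c⁻¹)) (D.τ c) (c * c)
  scale : ∀ (c : T) x f h, P x f h → P (D.τ c⁻¹ * x) (D.τ c * f) (c * c * h)
  negOne : P (-1) (-1) 1
  unique : ∀ x f h f' h', P x f h → P x f' h' → f = f'
  comb : ∀ x fx hx y fy hy fy' hy' fz hz, P x fx hx → P y fy hy → P (-y) fy' hy' → x + y ≠ 0 →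
    P (fx - fy') fz hz → P (x + y) (D.τ hy * fz + fy) (hx * hz * hy)
  comb' : ∀ x fx hx y fy hy fy' hy' f' h', P x fx hx → P y fy hy → P (-y) fy' hy' → x + y ≠ 0 →
    P (x + y) f' h' → P (fx - fy') (D.τ hy⁻¹ * (f' - fy)) (hx⁻¹ * h' * hy⁻¹)

variable {D} {P : R → R → T → Prop} {ρ : T}

theorem two_mul_τ_ne (c : T) (h2 : ∀ x : R, 2 * x = 0 → (2 : R) ∣ x) : 2 * D.τ c ≠ 0 :=
  fun h => D.not_two_dvd c (h2 _ h)

/-- `f` on `z₁ = (b² - 1) / m` and on `- z₁`. -/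
theorem values (hR : Rules D P ρ) (h2 : ∀ x : R, 2 * x = 0 → (2 : R) ∣ x) {a b m : T} (hb : b * b = a)
    (hm : D.τ m = D.τ a + 1 + 2 * D.τ b) :
    P (D.τ m⁻¹ * (D.τ a - 1)) (D.τ a - D.τ m) 1 ∧
      P (D.τ m⁻¹ * (1 - D.τ a)) (D.τ a⁻¹ * (1 - D.τ m)) 1 := by
  have hneg : ∀ x : R, -(2 * x) = 2 * x := fun x => by linear_combination (-x) * D.four
  have hsum : 2 * D.τ (ρ * a⁻¹) + 2 * D.τ ρ = 2 * D.τ (ρ * (a * m⁻¹)⁻¹) := by
    simp only [mul_inv_rev, inv_inv, map_mul, hm]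
    linear_combination (-2 * D.τ ρ) * (D.τ_inv a) - (D.τ ρ * D.τ a⁻¹ * D.τ b) * D.four
  have hne : 2 * D.τ (ρ * a⁻¹) + 2 * D.τ ρ ≠ 0 := by rw [hsum]; exact two_mul_τ_ne _ h2
  have hy : P (2 * D.τ ρ) 1 1 := by simpa using hR.base 1
  have hy' : P (-(2 * D.τ ρ)) 1 1 := by rw [hneg]; exact hy
  have hx := hR.base a
  have hx' : P (-(2 * D.τ (ρ * a⁻¹))) (D.τ a) (a * a) := by rw [hneg]; exact hx
  have he := hR.base (a * m⁻¹)
  rw [← hsum] at he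
  refine ⟨?_, ?_⟩
  · have h := hR.scale m _ _ _ (hR.comb' _ _ _ _ _ _ _ _ _ _ hx hy hy' hne he)
    convert h using 1
    · simp only [inv_one, map_one, one_mul, mul_sub, mul_one, map_mul]
      linear_combination (-(D.τ a)) * D.τ_inv m
    · apply Additive.ofMul.injective
      simp only [ofMul_mul, ofMul_inv, ofMul_one]
      abel
  · rw [add_comm] at he hne
    have h := hR.scale m _ _ _ (hR.comb' _ _ _ _ _ _ _ _ _ _ hy hx hx' hne he)
    convert h using 1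
    · simp only [mul_inv_rev, map_mul]
      linear_combination ((-D.τ a⁻¹) * D.τ a⁻¹ * D.τ a) * (D.τ_inv m) +
        D.τ a⁻¹ * (D.τ m - 1) * (D.τ_inv a)
    · apply Additive.ofMul.injective
      simp only [ofMul_mul, ofMul_inv, ofMul_one]
      abel

/-- The residue of `z₁`. -/
theorem z1_eq {a b m : T} (_hb : b * b = a) (hm : D.τ m = D.τ a + 1 + 2 * D.τ b) :
    D.τ m⁻¹ * (D.τ a - 1) = 1 + 2 * (D.τ m⁻¹ * (1 + D.τ b)) := by
  have := D.τ_inv' m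
  linear_combination this - D.τ m⁻¹ * hm - D.τ m⁻¹ * (1 + D.τ b) * D.four

theorem exists_m (D : TData R T) {b : T} (hb : b ≠ 1) :
    ∃ m : T, D.τ m = D.τ (b * b) + 1 + 2 * D.τ b ∧ (2 : R) ∣ D.τ m⁻¹ * (1 + D.τ b) * (1 + D.τ b) - 1 := by
  have h : ¬ (2 : R) ∣ D.τ (b * b) + D.τ 1 := by
    intro h
    have h1 : b * b = 1 := D.inj _ _ (by
      obtain ⟨z, hz⟩ := h
      exact ⟨z - D.τ 1, by linear_combination hz⟩)
    refine hb ?_
    rw [← D.pow_q b, show 2 ^ D.n = 2 * 2 ^ (D.n - 1) by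
      rw [← pow_succ', show D.n - 1 + 1 = D.n by have := D.hn; omega], pow_mul, sq, h1, one_pow]
  obtain ⟨m, hm⟩ := D.sum_eq _ _ h
  have hb' : (b * b) ^ 2 ^ (D.n - 1) = b := by rw [← sq, ← pow_mul, mul_comm, pow_mul, D.sq_half]
  rw [hb', one_pow, mul_one, map_one] at hm
  refine ⟨m, hm, 0, ?_⟩
  rw [map_mul] at hm
  linear_combination D.τ_inv' m - D.τ m⁻¹ * hm

/-- No such ring. -/
theorem false_of_rules (hR : Rules D P ρ) (h2 : ∀ x : R, 2 * x = 0 → (2 : R) ∣ x) : False := by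
  have hone : ¬ (2 : R) ∣ 1 := by simpa using D.not_two_dvd 1
  have hsq : ∀ c d : T, (2 : R) ∣ D.τ c - D.τ d ↔ c = d := fun c d =>
    ⟨D.inj c d, fun h => by subst h; simp⟩
  -- choose `b` with `1/(1+b)` different from `ρ`
  obtain ⟨b, hb1, hbρ⟩ : ∃ b : T, b ≠ 1 ∧ ¬ (2 : R) ∣ D.τ ρ * (1 + D.τ b) - 1 := by
    obtain ⟨d, hd1, -⟩ := D.three 1
    by_cases h : (2 : R) ∣ D.τ ρ * (1 + D.τ d) - 1
    · obtain ⟨d', hd'1, hd'd⟩ := D.three d
      refine ⟨d', hd'1, fun h' => hd'd ?_⟩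
      refine D.inj _ _ ?_
      have hd2 := dvd_mul_of_dvd_right (dvd_sub h' h) (D.τ ρ⁻¹)
      obtain ⟨z, hz⟩ := hd2
      exact ⟨z, by linear_combination hz - (D.τ d' - D.τ d) * D.τ_inv' ρ⟩
    · exact ⟨d, hd1, h⟩
  obtain ⟨m, hm, hmb⟩ := exists_m D hb1
  set a := b * b with ha
  obtain ⟨hz, hz'⟩ := values hR h2 (a := a) (b := b) (m := m) rfl hm
  set z₁ := D.τ m⁻¹ * (D.τ a - 1) with hz₁
  have hz'' : P (-z₁) (D.τ a⁻¹ * (1 - D.τ m)) 1 := by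
    convert hz' using 1; rw [hz₁]; ring
  -- the middle element
  have hb0 : ¬ (2 : R) ∣ 1 + D.τ b⁻¹ := by
    intro h
    refine hb1 (inv_eq_one.1 (D.inj _ _ ?_))
    obtain ⟨z, hz⟩ := h
    exact ⟨z - 1, by rw [map_one]; linear_combination hz⟩
  obtain ⟨μ, hμ⟩ := D.exhaust _ hb0
  set c := ρ * μ⁻¹ with hc
  have hmid : 1 - D.τ a⁻¹ * (1 - D.τ m) = 2 * D.τ (ρ * c⁻¹) := by
    rw [show ρ * c⁻¹ = μ by rw [hc, mul_inv_rev, inv_inv, mul_comm μ, mul_inv_cancel_left]]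
    rw [← two_mul_congr D.four hμ]
    have hbb : D.τ a⁻¹ * D.τ b = D.τ b⁻¹ := by
      rw [← map_mul, ha, mul_inv_rev, inv_mul_cancel_right]
    linear_combination D.τ a⁻¹ * hm + D.τ_inv' a + 2 * hbb
  have hx : P (2 * D.τ ρ) 1 1 := by simpa using hR.base 1
  have hne : 2 * D.τ ρ + z₁ ≠ 0 := by
    intro h
    refine hone ?_
    rw [hz₁, z1_eq (D := D) rfl hm] at h
    exact ⟨-(D.τ ρ + D.τ m⁻¹ * (1 + D.τ b)), by linear_combination h⟩
  have hfz : P (1 - D.τ a⁻¹ * (1 - D.τ m)) (D.τ c) (c * c) := hmid ▸ hR.base c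
  have key := hR.comb _ _ _ _ _ _ _ _ _ _ hx hz hz'' hne hfz
  rw [map_one, one_mul] at key
  -- residue of the value: `c + 1`
  have hres : ∀ {a b m : T}, D.τ m = D.τ a + 1 + 2 * D.τ b → (2 : R) ∣ (D.τ a - D.τ m) - 1 :=
    fun {a b m} h => ⟨-1 - D.τ b, by linear_combination -h⟩
  have hfinal : ∀ f, (2 : R) ∣ f - 1 → P (2 * D.τ ρ + z₁) f 1 → False := by
    intro f hf hP
    have heq := hR.unique _ _ _ _ _ key hP
    refine D.not_two_dvd c ?_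
    have h1 := dvd_sub hf (hres hm)
    rw [← heq] at h1
    obtain ⟨z, hz⟩ := h1
    exact ⟨z, by linear_combination hz⟩
  set η := D.τ ρ + D.τ m⁻¹ * (1 + D.τ b) with hη
  have hxy : 2 * D.τ ρ + z₁ = 1 + 2 * η := by
    rw [hz₁, z1_eq (D := D) rfl hm, hη]; ring
  have hη0 : ¬ (2 : R) ∣ η := by
    intro h
    refine hbρ ?_
    obtain ⟨z, hz⟩ := dvd_mul_of_dvd_left h (1 + D.τ b)
    obtain ⟨z', hz'⟩ := hmb
    exact ⟨z - z' - 1, by linear_combination hz - hz'⟩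
  by_cases hη1 : (2 : R) ∣ η - 1
  · refine hfinal (-1) ⟨-1, by ring⟩ ?_
    rw [hxy, two_mul_congr D.four hη1, show (1 : R) + 2 * 1 = -1 by linear_combination D.four]
    exact hR.negOne
  · -- `η = 1/(1+b')`
    obtain ⟨ν, hν⟩ := D.exhaust _ hη0
    have hν1 : ν ≠ 1 := fun h => hη1 (by rwa [h, map_one] at hν)
    have hd : ¬ (2 : R) ∣ D.τ ν⁻¹ + D.τ 1 := by
      intro h
      refine hν1 (inv_eq_one.1 (D.inj _ _ ?_))
      obtain ⟨z, hz⟩ := h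
      exact ⟨z - D.τ 1, by linear_combination hz⟩
    obtain ⟨b', hb'⟩ := D.exhaust _ hd
    have hb'1 : b' ≠ 1 := by
      intro h
      refine D.not_two_dvd ν⁻¹ ?_
      obtain ⟨z, hz⟩ := hb'
      rw [h] at hz
      exact ⟨z, by linear_combination hz⟩
    obtain ⟨m', hm', hmb'⟩ := exists_m D hb'1
    obtain ⟨hz2, -⟩ := values hR h2 (a := b' * b') (b := b') (m := m') rfl hm'
    rw [z1_eq (D := D) rfl hm'] at hz2
    refine hfinal _ (hres hm') ?_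
    rw [hxy]
    suffices (2 : R) ∣ η - D.τ m'⁻¹ * (1 + D.τ b') by rwa [two_mul_congr D.four this]
    obtain ⟨u, hu⟩ := hb'
    obtain ⟨v, hv⟩ := hmb'
    obtain ⟨k, hk⟩ := hν
    -- `1 + b' ≡ 1/ν`
    have hu' : (1 : R) + D.τ b' = D.τ ν⁻¹ + 2 * (1 - u) := by
      rw [map_one] at hu; linear_combination -hu
    refine ⟨k - D.τ m'⁻¹ * (1 + D.τ b') * (1 - u) * D.τ ν + D.τ ν * (-v) , ?_⟩
    linear_combination hk +
      (D.τ ν * (-1)) * hv + D.τ ν * D.τ m'⁻¹ * (1 + D.τ b') * hu' +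
      (D.τ m'⁻¹ * (1 + D.τ b')) * D.τ_inv ν +
      (D.τ m'⁻¹ * (1 + D.τ b') * D.τ ν * (1 - u)) * D.four

end Cfsg.Agent.Lib.BenderSuzuki.Abelian.Alg
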