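import Cfsg.Agent.Lib.BenderSuzuki.Abelian.Setup
import Cfsg.Agent.Lib.Suzuki2.Anisotropic
import Cfsg.Agent.S1165

/-!
# Exponent 4: the element `r` of the structure equation is not an involution

Otherwise `⟨A, C, t⟩` preserves the circle `{a} ∪ A b`, its stabiliser of an outside point acts
freely on the `q + 1` points of the circle, and some element of it has order dividing `q - 1`.
-/

set_option autoImplicit false
set_option linter.unusedSectionVars false
set_option linter.style.haveILetI false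
set_option linter.unusedSimpArgs false

namespace Cfsg.Agent.Lib.BenderSuzuki.Abelian.Circle

open MulAction Cfsg.Agent.Lib.RankOne.Basic Cfsg.Agent.Lib.RankOne.Involution
open Cfsg.Agent.Lib.BenderSuzuki Cfsg.Agent.Lib.BenderSuzuki.Abelian.Setup

universe u v

variable {G : Type u} {Ω : Type v} [Group G] [Finite G] [MulAction G Ω] {a : Ω} {t : G}
  {Q C : Subgroup G} (h : Ctx G Ω a t Q C)

/-- The circle through `a` and `b = t a`. -/
def circle : Set Ω := {c | c = a ∨ ∃ y ∈ inv1 h, c = y • (t • a)}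

include h

theorem card_circle : Nat.card (circle h) = qNum G a + 1 := by
  classical
  have := finiteOmega h.setup
  let f : Option (inv1 h) → circle h := fun o => o.elim ⟨a, Or.inl rfl⟩
    fun y => ⟨(y : G) • (t • a), Or.inr ⟨y, y.2, rfl⟩⟩
  have hne : ∀ y : inv1 h, (y : G) • (t • a) ≠ a := fun y e =>
    t_smul_ne h.setup (smul_left_cancel (y : G) (e.trans (Q_fix h.setup y.2.1).symm))
  have hbij : Function.Bijective f := by
    refine ⟨?_, ?_⟩
    · rintro (_ | x) (_ | y) e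
      · rfl
      · exact absurd (congrArg Subtype.val e).symm (hne y)
      · exact absurd (congrArg Subtype.val e) (hne x)
      · exact congrArg some (Subtype.ext
          (Q_smul_inj h.setup x.2.1 y.2.1 (t_smul_ne h.setup) (congrArg Subtype.val e)))
    · rintro ⟨c, rfl | ⟨y, hy, rfl⟩⟩
      · exact ⟨none, rfl⟩
      · exact ⟨some ⟨y, hy⟩, rfl⟩
  rw [← Nat.card_congr (Equiv.ofBijective f hbij), Finite.card_option, card_inv1 h]

theorem C_smul {k : G} (hk : k ∈ C) : k • a = a ∧ k • (t • a) = t • a :=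
  mem_twoStab.1 (C_le h hk)

theorem omega_conj {k y : G} (hk : k ∈ C) (hy : y ∈ inv1 h) : k * y * k⁻¹ ∈ inv1 h :=
  ⟨twoStab_norm h.setup (C_le h hk) hy.1, by
    rw [show k * y * k⁻¹ * (k * y * k⁻¹) = k * (y * y) * k⁻¹ by group, hy.2, mul_one, mul_inv_cancel]⟩

theorem t_mul_C {k : G} (hk : k ∈ C) : t * k = k⁻¹ * t := by
  rw [← C_conj h hk]; simp [mul_assoc, h.setup.mul_self]

/-- An element of `A C` fixing an outside point is trivial. -/
theorem small_eq_one {y k : G} (hy : y ∈ inv1 h) (hk : k ∈ C) {c : Ω} (hc : c ∉ circle h)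
    (hfix : (y * k) • c = c) : y * k = 1 := by
  have hS := h.setup
  have hca : c ≠ a := fun e => hc (Or.inl e)
  by_cases hk1 : k = 1
  · subst hk1
    rw [mul_one] at hfix ⊢
    exact Q_free hS hy.1 hca hfix
  exfalso
  obtain ⟨z, hz⟩ : ∃ z : inv1 h, (z : G) * (k * (z : G)⁻¹ * k⁻¹) = y := by
    let φ : inv1 h → inv1 h := fun z =>
      ⟨(z : G) * (k * (z : G)⁻¹ * k⁻¹),
        (inv1 h).mul_mem z.2 (omega_conj h hk ((inv1 h).inv_mem z.2))⟩
    have hφ : Function.Injective φ := by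
      intro x x' e
      have e' : (x : G) * (k * (x : G)⁻¹ * k⁻¹) = x' * (k * (x' : G)⁻¹ * k⁻¹) := congrArg Subtype.val e
      have hfixk : k * ((x' : G)⁻¹ * x) * k⁻¹ = (x' : G)⁻¹ * x := by
        have hcm := h.comm ((x' : G)⁻¹ * x) (Q.mul_mem (Q.inv_mem x'.2.1) x.2.1)
          (k * (x : G)⁻¹ * k⁻¹) (Q_invariant h k hk _ (Q.inv_mem x.2.1))
        have h1 : k * (x' : G)⁻¹ * k⁻¹ = (x' : G)⁻¹ * x * (k * (x : G)⁻¹ * k⁻¹) := by
          rw [show (x' : G)⁻¹ * x * (k * (x : G)⁻¹ * k⁻¹) =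
            (x' : G)⁻¹ * (x * (k * (x : G)⁻¹ * k⁻¹)) by group, e']
          group
        calc k * ((x' : G)⁻¹ * x) * k⁻¹ = (k * (x' : G)⁻¹ * k⁻¹) * (k * (x : G)⁻¹ * k⁻¹)⁻¹ := by group
          _ = _ := by rw [h1]; group
      rcases fpf h hk (Q.mul_mem (Q.inv_mem x'.2.1) x.2.1) hfixk with h1 | h1
      · exact absurd h1 hk1
      · exact Subtype.ext (inv_mul_eq_one.1 h1).symm
    obtain ⟨z, hz⟩ := Finite.surjective_of_injective hφ ⟨y, hy⟩
    exact ⟨z, congrArg Subtype.val hz⟩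
  have hfix' : k • ((z : G)⁻¹ • c) = (z : G)⁻¹ • c := by
    have e : y * k = z * k * (z : G)⁻¹ := by rw [← hz]; group
    rw [e, mul_smul, mul_smul] at hfix
    conv_rhs => rw [← hfix, inv_smul_smul]
  refine hk1 (inverted_fix_three hS ((mem_C_iff h).1 hk)
    ⟨a, t • a, (z : G)⁻¹ • c, (t_smul_ne hS).symm, ?_, ?_, (C_smul h hk).1, (C_smul h hk).2, hfix'⟩)
  · intro e
    exact hca (by rw [← smul_inv_smul (z : G) c, ← e, Q_fix hS z.2.1])
  · intro e
    exact hc (Or.inr ⟨z, z.2, by rw [e, smul_inv_smul]⟩)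

/-- If `t A t` stays in the two cells, `⟨A, C, t⟩` consists of the two cells. -/
theorem closure_cells
    (ht : ∀ y ∈ inv1 h, y ≠ 1 → ∃ y' ∈ inv1 h, ∃ k ∈ C, ∃ y'' ∈ inv1 h,
      t * y * t = y' * k * t * y'') {l : G}
    (hl : l ∈ Subgroup.closure ((inv1 h : Set G) ∪ (C : Set G) ∪ {t})) :
    (∃ y ∈ inv1 h, ∃ k ∈ C, l = y * k) ∨
      ∃ y ∈ inv1 h, ∃ k ∈ C, ∃ z ∈ inv1 h, l = y * k * t * z := by
  have hS := h.setup
  let M : Set G := {l | (∃ y ∈ inv1 h, ∃ k ∈ C, l = y * k) ∨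
      ∃ y ∈ inv1 h, ∃ k ∈ C, ∃ z ∈ inv1 h, l = y * k * t * z}
  have step : ∀ g ∈ ((inv1 h : Set G) ∪ (C : Set G) ∪ {t}), ∀ l ∈ M, g * l ∈ M := by
    rintro g ((hg | hg) | hg) l hl
    · rcases hl with ⟨y, hy, k, hk, rfl⟩ | ⟨y, hy, k, hk, z, hz, rfl⟩
      · exact Or.inl ⟨g * y, (inv1 h).mul_mem hg hy, k, hk, by group⟩
      · exact Or.inr ⟨g * y, (inv1 h).mul_mem hg hy, k, hk, z, hz, by group⟩
    · rcases hl with ⟨y, hy, k, hk, rfl⟩ | ⟨y, hy, k, hk, z, hz, rfl⟩
      · exact Or.inl ⟨g * y * g⁻¹, omega_conj h hg hy, g * k, C.mul_mem hg hk, by group⟩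
      · exact Or.inr ⟨g * y * g⁻¹, omega_conj h hg hy, g * k, C.mul_mem hg hk, z, hz, by group⟩
    · rw [Set.mem_singleton_iff] at hg
      subst hg
      rcases hl with ⟨y, hy, k, hk, rfl⟩ | ⟨y, hy, k, hk, z, hz, rfl⟩
      · refine Or.inr ⟨1, (inv1 h).one_mem, k⁻¹, C.inv_mem hk, k⁻¹ * y * k⁻¹⁻¹,
          omega_conj h (C.inv_mem hk) hy, ?_⟩
        have := t_mul_C h hk
        calc g * (y * k) = (g * k) * (k⁻¹ * y * k⁻¹⁻¹) := by group
          _ = _ := by rw [this]; group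
      · have hkt : k * g = g * k⁻¹ := by rw [t_mul_C h (C.inv_mem hk), inv_inv]
        by_cases hy1 : y = 1
        · subst hy1
          refine Or.inl ⟨k⁻¹ * z * k⁻¹⁻¹, omega_conj h (C.inv_mem hk) hz, k⁻¹, C.inv_mem hk, ?_⟩
          calc g * (1 * k * g * z) = g * (k * g) * z := by group
            _ = g * g * (k⁻¹ * z) := by rw [hkt]; group
            _ = _ := by rw [hS.mul_self]; group
        obtain ⟨y', hy', k', hk', y'', hy'', e⟩ := ht y hy hy1
        refine Or.inr ⟨y', hy', k' * k, C.mul_mem hk' hk, k * y'' * k⁻¹ * z,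
          (inv1 h).mul_mem (omega_conj h hk hy'') hz, ?_⟩
        calc g * (y * k * g * z) = g * y * (k * g) * z := by group
          _ = (g * y * g) * (k⁻¹ * z) := by rw [hkt]; group
          _ = y' * k' * (g * k⁻¹) * (k * y'' * k⁻¹ * z) := by rw [e]; group
          _ = y' * k' * (k * g) * (k * y'' * k⁻¹ * z) := by rw [hkt]
          _ = _ := by group
  have hone : (1 : G) ∈ M :=
    Or.inl ⟨1, (inv1 h).one_mem, 1, C.one_mem, (mul_one 1).symm⟩
  suffices ∀ m ∈ M, l * m ∈ M by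
    have h1 := this 1 hone
    rwa [mul_one] at h1
  induction hl using Subgroup.closure_induction_left with
  | one => intro m hm; rwa [one_mul]
  | mul_left g hg x _ ih =>
    intro m hm
    rw [mul_assoc]
    exact step g hg _ (ih m hm)
  | inv_mul_cancel g hg x _ ih =>
    intro m hm
    rw [mul_assoc]
    refine step g⁻¹ ?_ _ (ih m hm)
    rcases hg with (hg | hg) | hg
    · exact Or.inl (Or.inl ((inv1 h).inv_mem hg))
    · exact Or.inl (Or.inr (C.inv_mem hg))
    · rw [Set.mem_singleton_iff] at hg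
      exact Or.inr (by rw [hg, t_inv hS]; rfl)

/-- In exponent 4 the element `r` is not an involution. -/
theorem not_invol (he : Nat.card Q = qNum G a ^ 2) {s r : G} (hs : s ∈ invs G a) (hr : r ∈ Q)
    (hr1 : r ≠ 1) (e : t * s * t = r⁻¹ * t * r) : r * r ≠ 1 := by
  intro hr2
  have hS := h.setup
  haveI := h.faithful
  have hsO := (mem_invs_iff h).1 hs
  have hrI : r ∈ invs G a := (mem_invs_iff h).2 ⟨⟨hr, hr2⟩, hr1⟩
  have hD1 : (1 : G) ∈ twoStab G a t := (twoStab G a t).one_mem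
  -- `r = s`
  have e1 : t * s * t = r⁻¹ * 1 * t * r := by rw [mul_one]; exact e
  have hr0 : r = s := by
    obtain ⟨c, ⟨hc, hcr⟩, -⟩ := existsUnique_C h hs hrI
    obtain ⟨g₂, hg₂, d₂, hd₂, f₂, hf₂, e₂⟩ := exists_decompQ h hr hr1
    have h1 := (Cfsg.Agent.S1165.result hS s r⁻¹ 1 r hsO.1.1 hsO.2 (Q.inv_mem hr) hD1 hr e1).2.1
      g₂ d₂ f₂ hg₂ hd₂ hf₂ e₂
    have h2 := conj_eq_decomp h (C.inv_mem hc) e1
    rw [inv_inv, hcr, e₂] at h2
    have hcD := C_le h (C.inv_mem hc)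
    have hd := (decompQ_unique h hg₂
      (by simpa using twoStab_norm hS hcD (Q.inv_mem hr)) hd₂
      (by simpa using (twoStab G a t).mul_mem hcD hcD) hf₂
      (by simpa using twoStab_norm hS hcD hr) (by simpa using h2)).2.1
    rw [h1.2, inv_one] at hd
    have hc1 := eq_one_of_sq hS.odd_card hcD hd.symm
    rw [inv_eq_one] at hc1
    rw [← hcr, hc1]; group
  subst hr0
  -- `t A t` in cells
  have hrinv : r⁻¹ = r := inv_eq_self_of_sq hr2
  have ht : ∀ y ∈ inv1 h, y ≠ 1 → ∃ y' ∈ inv1 h, ∃ k ∈ C, ∃ y'' ∈ inv1 h,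
      t * y * t = y' * k * t * y'' := by
    intro y hy hy1
    obtain ⟨c, ⟨hc, rfl⟩, -⟩ := existsUnique_C h hs ((mem_invs_iff h).2 ⟨hy, hy1⟩)
    have h2 := conj_eq_decomp h (C.inv_mem hc) e1
    rw [inv_inv, hrinv, mul_one] at h2
    refine ⟨_, omega_conj h (C.inv_mem hc) hsO.1, c⁻¹ * c⁻¹, C.mul_mem (C.inv_mem hc) (C.inv_mem hc),
      _, omega_conj h (C.inv_mem hc) hsO.1, ?_⟩
    rw [inv_inv]; exact h2
  have cells := fun {l} => closure_cells h ht (l := l)
  set L := Subgroup.closure ((inv1 h : Set G) ∪ (C : Set G) ∪ {t})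
  have hA : ∀ y ∈ inv1 h, y ∈ L := fun y hy => Subgroup.subset_closure (Or.inl (Or.inl hy))
  have hC : ∀ k ∈ C, k ∈ L := fun k hk => Subgroup.subset_closure (Or.inl (Or.inr hk))
  have htL : t ∈ L := Subgroup.subset_closure (Or.inr rfl)
  -- `L` preserves the circle
  have hcirc : ∀ l ∈ L, ∀ c ∈ circle h, l • c ∈ circle h := by
    have base : ∀ l ∈ L, l • a ∈ circle h := by
      intro l hl
      rcases cells hl with ⟨y, hy, k, hk, rfl⟩ | ⟨y, hy, k, hk, z, hz, rfl⟩
      · rw [mul_smul, (C_smul h hk).1, Q_fix hS hy.1]; exact Or.inl rfl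
      · rw [mul_smul, mul_smul, mul_smul, Q_fix hS hz.1, (C_smul h hk).2]
        exact Or.inr ⟨y, hy, rfl⟩
    rintro l hl c (rfl | ⟨y, hy, rfl⟩)
    · exact base l hl
    · rw [← mul_smul, ← mul_smul]
      exact base _ (L.mul_mem (L.mul_mem hl (hA y hy)) htL)
  have hcirc' : ∀ l ∈ L, ∀ c : Ω, c ∉ circle h → l • c ∉ circle h := fun l hl c hc hlc =>
    hc (by simpa using hcirc _ (L.inv_mem hl) _ hlc)
  -- the stabiliser of an outside point is free on the circle
  have hfree : ∀ l ∈ L, ∀ c : Ω, c ∉ circle h → l • c = c → ∀ d ∈ circle h, l • d = d → l = 1 := by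
    intro l hl c hc hlc d hd hld
    have key : ∀ m ∈ L, m • a = d → l = 1 := by
      intro m hm hma
      have hl' : (m⁻¹ * l * m) • a = a := by rw [mul_smul, mul_smul, hma, hld, ← hma, inv_smul_smul]
      have hfix : (m⁻¹ * l * m) • (m⁻¹ • c) = m⁻¹ • c := by
        rw [mul_smul, mul_smul, smul_inv_smul, hlc]
      rcases cells (L.mul_mem (L.mul_mem (L.inv_mem hm) hl) hm) with
        ⟨y, hy, k, hk, e'⟩ | ⟨y, hy, k, hk, z, hz, e'⟩
      · have := small_eq_one h hy hk (hcirc' _ (L.inv_mem hm) c hc) (by rw [← e']; exact hfix)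
        rw [← e'] at this
        calc l = m * (m⁻¹ * l * m) * m⁻¹ := by group
          _ = 1 := by rw [this]; group
      · exfalso
        rw [e', mul_smul, mul_smul, mul_smul, Q_fix hS hz.1, (C_smul h hk).2] at hl'
        exact t_smul_ne hS (smul_left_cancel y (hl'.trans (Q_fix hS hy.1).symm))
    rcases hd with rfl | ⟨y, hy, rfl⟩
    · exact key 1 L.one_mem (one_smul _ _)
    · exact key (y * t) (L.mul_mem (hA y hy) htL) (mul_smul _ _ _)
  -- an outside point
  obtain ⟨x, hx, hxA⟩ : ∃ x ∈ Q, x * x ≠ 1 := by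
    by_contra hall
    push Not at hall
    have : inv1 h = Q := le_antisymm (inv1_le h) fun z hz => ⟨hz, hall z hz⟩
    have h1 := card_inv1 h
    rw [this, he, sq] at h1
    have := four_le_qNum h
    nlinarith
  have houtA : ∀ {z : G}, z ∈ Q → z * z ≠ 1 → z • (t • a) ∉ circle h := by
    rintro z hz hz2 (e' | ⟨y, hy, e'⟩)
    · exact t_smul_ne hS (smul_left_cancel z (e'.trans (Q_fix hS hz).symm))
    · exact hz2 (by rw [Q_smul_inj hS hz hy.1 (t_smul_ne hS) e']; exact hy.2)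
  set c := x • (t • a) with hcdef
  have hc : c ∉ circle h := houtA hx hxA
  have htc := hcirc' t htL c hc
  have hca : t • c ≠ a := fun e' => htc (Or.inl e')
  obtain ⟨z, hz, hzc⟩ := Q_trans hS (t_smul_ne hS) hca
  have hzA : z * z ≠ 1 := fun hz2 => htc (Or.inr ⟨z, ⟨hz, hz2⟩, hzc.symm⟩)
  have hsqA : ∀ w ∈ Q, w * w ≠ 1 → w * w ∈ invs G a := by
    intro w hw hw1
    refine (mem_invs_iff h).2 ⟨⟨Q.mul_mem hw hw, ?_⟩, hw1⟩
    have hsub := card_eq_mul_sqImage h (le_refl Q) (fun e' => hr1 (by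
      rw [e'] at hr; exact Subgroup.mem_bot.1 hr)) (Q_invariant h)
    rw [he, sq] at hsub
    have hle := inv1_le_of_invariant h (sqImage_le h le_rfl) (fun e' => hxA (by
      have : x * x ∈ sqImage h (le_refl Q) := ⟨x, hx, rfl⟩
      rw [e'] at this; exact Subgroup.mem_bot.1 this)) (sqImage_invariant h le_rfl (Q_invariant h))
    have heq : inv1 h = sqImage h (le_refl Q) := Subgroup.eq_of_le_of_card_ge hle (by
      rw [card_inv1 h]
      exact (Nat.eq_of_mul_eq_mul_right (by have := four_le_qNum h; omega) hsub).ge)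
    have hmem : w * w ∈ inv1 h := by rw [heq]; exact ⟨w, hw, rfl⟩
    exact hmem.2
  obtain ⟨k, ⟨hk, hkz⟩, -⟩ := existsUnique_C h (hsqA z hz hzA) (hsqA x hx hxA)
  have hy : k * z * k⁻¹ * x⁻¹ ∈ inv1 h := by
    refine ⟨Q.mul_mem (Q_invariant h k hk z hz) (Q.inv_mem hx), ?_⟩
    calc k * z * k⁻¹ * x⁻¹ * (k * z * k⁻¹ * x⁻¹)
        = k * z * k⁻¹ * (x⁻¹ * (k * z * k⁻¹)) * x⁻¹ := by group
      _ = k * z * k⁻¹ * (k * z * k⁻¹ * x⁻¹) * x⁻¹ := by
        rw [h.comm x⁻¹ (Q.inv_mem hx) _ (Q_invariant h k hk z hz)]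
      _ = k * (z * z) * k⁻¹ * (x * x)⁻¹ := by group
      _ = 1 := by rw [hkz, mul_inv_cancel]
  -- `g = y⁻¹ (k t)` fixes `c`
  set u := (k * z * k⁻¹ * x⁻¹)⁻¹ with hu
  have huA : u ∈ inv1 h := (inv1 h).inv_mem hy
  set w := k * t with hwdef
  have hgL : u * w ∈ L := L.mul_mem (hA u huA) (L.mul_mem (hC k hk) htL)
  have hgc : (u * w) • c = c := by
    have e1 : (z : G) • (t • a) = (z * k⁻¹) • (t • a) := by
      rw [mul_smul, (C_smul h (C.inv_mem hk)).2]
    calc (u * w) • c = (u * k) • (t • c) := by simp [hwdef, mul_smul]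
      _ = (u * k * (z * k⁻¹)) • (t • a) := by rw [← hzc, e1, ← mul_smul]
      _ = c := by rw [hcdef, hu]; congr 1; group
  have hw2 : w * w = 1 := by
    calc k * t * (k * t) = k * (t * k * t) := by group
      _ = 1 := by rw [C_conj h hk, mul_inv_cancel]
  have hwa : w • a = t • a := by rw [hwdef, mul_smul, (C_smul h hk).2]
  by_cases hu1 : u = 1
  · -- an involution of `L` fixes only a point of the circle
    rw [hu1, one_mul] at hgc hgL
    have hw1 : w ≠ 1 := fun e' => t_smul_ne hS (by rw [← hwa, e', one_smul])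
    have hn : Even (qNum G a) := by
      obtain ⟨n, hn, hq⟩ := exists_qNum_eq h
      rw [hq, Nat.even_pow]; exact ⟨even_two, by omega⟩
    have hcard := card_circle h
    classical
    have := finiteOmega hS
    letI : MulAction (Subgroup.zpowers w) (circle h) :=
      { smul := fun g d => ⟨(g : G) • (d : Ω),
          hcirc _ ((Subgroup.zpowers_le.2 hgL) g.2) _ d.2⟩
        one_smul := fun d => Subtype.ext (one_smul G (d : Ω))
        mul_smul := fun g g' d => Subtype.ext (mul_smul (g : G) g' (d : Ω)) }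
    have hdvd := Cfsg.Agent.Lib.Suzuki2.Anisotropic.free_dvd (G := Subgroup.zpowers w) (X := circle h)
      fun g d e' => Subtype.ext (hfree _ ((Subgroup.zpowers_le.2 hgL) g.2) c hc (by
        obtain ⟨i, hi⟩ := Subgroup.mem_zpowers_iff.1 g.2
        rw [← hi]
        exact MulAction.mem_stabilizer_iff.1 ((stabilizer G c).zpow_mem hgc i) ) _ d.2
        (congrArg Subtype.val e'))
    rw [Nat.card_zpowers, hcard, orderOf_eq_prime (p := 2) (by rw [sq, hw2]) hw1] at hdvd
    obtain ⟨j, hj⟩ := hn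
    omega
  -- otherwise `g` is conjugate into `C`
  have hu2 : u * u = 1 := huA.2
  set g := u * w with hg
  have huc : u • c ≠ c := fun e' => hu1 (Q_free hS huA.1 (fun e'' => hc (Or.inl e'')) e')
  have hug : u * g * u⁻¹ = g⁻¹ := by
    rw [hg, mul_inv_rev, inv_eq_self_of_sq hu2, inv_eq_self_of_sq hw2, ← mul_assoc, ← mul_assoc,
      hu2, one_mul]
  have hguc : g • (u • c) = u • c := by
    have e' : g * u = u * g⁻¹ := by
      rw [← hug, inv_eq_self_of_sq hu2]
      simp [mul_assoc, hu2, show ∀ p, u * (u * p) = p from fun p => by rw [← mul_assoc, hu2, one_mul]]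
    rw [← mul_smul, e', mul_smul, inv_smul_eq_iff.2 hgc.symm]
  obtain ⟨m, hma, hmb⟩ := exists_pair hS (Ne.symm huc) (t_smul_ne hS).symm
  have hma' : m⁻¹ • a = c := inv_smul_eq_iff.2 hma.symm
  have hmb' : m⁻¹ • (t • a) = u • c := inv_smul_eq_iff.2 hmb.symm
  set g' := m * g * m⁻¹ with hg'
  set v := m * u * m⁻¹ with hv
  have hg'D : g' ∈ twoStab G a t := by
    rw [mem_twoStab, hg', mul_smul, mul_smul, hma', hgc, hma, mul_smul, mul_smul, hmb', hguc, hmb]
    exact ⟨rfl, rfl⟩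
  have hva : v • a = t • a := by rw [hv, mul_smul, mul_smul, hma', hmb]
  have hvb : v • (t • a) = a := by
    rw [hv, mul_smul, mul_smul, hmb', ← mul_smul u, hu2, one_smul, hma]
  have hv2 : v * v = 1 := by
    rw [hv, show m * u * m⁻¹ * (m * u * m⁻¹) = m * (u * u) * m⁻¹ by group, hu2, mul_one, mul_inv_cancel]
  have hk0 : t * v ∈ Cfsg.invertedBy (twoStab G a t) t := by
    refine (mem_invertedBy_iff hS).2 ⟨?_, ?_⟩
    · rw [mem_twoStab, mul_smul t v, mul_smul t v, hva, hvb, tt_smul hS]; exact ⟨rfl, rfl⟩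
    · rw [tt_mul hS, mul_inv_rev, inv_eq_self_of_sq hv2, t_inv hS]
  obtain ⟨j, hj, hjj, -⟩ := exists_sqrtK hS hk0
  have hvj : v = j⁻¹ * t * j := by
    calc v = t * (t * v) := by rw [tt_mul hS]
      _ = (t * j) * j := by rw [← hjj]; group
      _ = _ := by rw [t_mul_inverted hS hj]
  have hvg : v * g' * v⁻¹ = g'⁻¹ := by
    rw [hv, hg', show m * u * m⁻¹ * (m * g * m⁻¹) * (m * u * m⁻¹)⁻¹ = m * (u * g * u⁻¹) * m⁻¹ by group,
      hug]
    group
  have hjgC : j * g' * j⁻¹ ∈ C := by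
    refine (mem_C_iff h).2 ⟨(twoStab G a t).mul_mem ((twoStab G a t).mul_mem hj.1 hg'D)
      ((twoStab G a t).inv_mem hj.1), ?_⟩
    calc t * (j * g' * j⁻¹) * t⁻¹ = j * ((j⁻¹ * t * j) * g' * (j⁻¹ * t * j)⁻¹) * j⁻¹ := by group
      _ = j * g'⁻¹ * j⁻¹ := by rw [← hvj, hvg]
      _ = _ := by group
  have hord : orderOf g ∣ Nat.card C := by
    have h1 := orderOf_dvd_natCard (⟨_, hjgC⟩ : C)
    rw [← Subgroup.orderOf_coe] at h1
    rwa [show (((⟨_, hjgC⟩ : C)) : G) = (j * m) * g * (j * m)⁻¹ by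
      show j * g' * j⁻¹ = _; rw [hg']; group, ← MulAut.conj_apply,
      MulEquiv.orderOf_eq] at h1
  have hord' : orderOf g ∣ qNum G a + 1 := by
    classical
    have := finiteOmega hS
    letI : MulAction (Subgroup.zpowers g) (circle h) :=
      { smul := fun l d => ⟨(l : G) • (d : Ω),
          hcirc _ ((Subgroup.zpowers_le.2 hgL) l.2) _ d.2⟩
        one_smul := fun d => Subtype.ext (one_smul G (d : Ω))
        mul_smul := fun l l' d => Subtype.ext (mul_smul (l : G) l' (d : Ω)) }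
    rw [← card_circle h, ← Nat.card_zpowers]
    exact Cfsg.Agent.Lib.Suzuki2.Anisotropic.free_dvd
      fun l d e' => Subtype.ext (hfree _ ((Subgroup.zpowers_le.2 hgL) l.2) c hc (by
        obtain ⟨i, hi⟩ := Subgroup.mem_zpowers_iff.1 l.2
        rw [← hi]
        exact MulAction.mem_stabilizer_iff.1 ((stabilizer G c).zpow_mem hgc i)) _ d.2
        (congrArg Subtype.val e'))
  have hcC := card_C h
  obtain ⟨n, hn2, hq⟩ := exists_qNum_eq h
  have h2dvd : orderOf g ∣ 2 := by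
    have := Nat.dvd_sub hord' hord
    rwa [show qNum G a + 1 - Nat.card C = 2 by omega] at this
  have hg1 : g ≠ 1 := fun e' => huc (by
    have : w = u := by
      rw [hg] at e'
      rw [← inv_eq_of_mul_eq_one_right e', inv_eq_self_of_sq hu2]
    exfalso
    exact t_smul_ne hS (by rw [← hwa, this, Q_fix hS huA.1]))
  have horder : orderOf g = 2 := (Nat.prime_two.eq_one_or_self_of_dvd _ h2dvd).resolve_left
    fun e' => hg1 (orderOf_eq_one_iff.1 e')
  have heven : Even (qNum G a) := by rw [hq, Nat.even_pow]; exact ⟨even_two, by omega⟩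
  rw [horder] at hord'
  obtain ⟨i, hi⟩ := heven
  omega

end Cfsg.Agent.Lib.BenderSuzuki.Abelian.Circle
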