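import Mathlib

/-!
# Fixed linear characters and fixed elements; a numerical lemma
-/

set_option autoImplicit false
set_option linter.style.haveILetI false

namespace Cfsg.Agent.Lib.BenderSuzuki.Abelian.Fixed

universe u

/-- An endomorphism of a finite abelian group fixes at most as many linear characters as elements. -/
theorem card_fixed_chars {M : Type u} [CommGroup M] [Finite M] (φ : M →* M) :
    Nat.card {lam : M →* ℂˣ // lam.comp φ = lam} ≤ Nat.card {x : M // φ x = x} := by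
  classical
  let ψ : M →* M :=
    { toFun := fun x => x⁻¹ * φ x
      map_one' := by simp
      map_mul' := fun x y => by rw [map_mul, mul_inv, mul_mul_mul_comm] }
  have hker : ∀ x, x ∈ ψ.ker ↔ φ x = x := fun x => by
    rw [MonoidHom.mem_ker]
    show x⁻¹ * φ x = 1 ↔ _
    rw [inv_mul_eq_one, eq_comm]
  have hkill : ∀ lam : {lam : M →* ℂˣ // lam.comp φ = lam}, ψ.range ≤ lam.1.ker := by
    rintro ⟨lam, hlam⟩ _ ⟨x, rfl⟩
    have h1 : lam (φ x) = lam x := DFunLike.congr_fun hlam x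
    rw [MonoidHom.mem_ker]
    show lam (x⁻¹ * φ x) = 1
    rw [map_mul, map_inv, h1, inv_mul_cancel]
  have hinj : Function.Injective
      (fun lam : {lam : M →* ℂˣ // lam.comp φ = lam} => QuotientGroup.lift ψ.range lam.1 (hkill lam)) := by
    intro l l' e
    exact Subtype.ext (MonoidHom.ext fun x => DFunLike.congr_fun e (x : M ⧸ ψ.range))
  obtain ⟨eq⟩ := CommGroup.monoidHom_mulEquiv_of_hasEnoughRootsOfUnity (M ⧸ ψ.range) ℂ
  haveI : Finite ((M ⧸ ψ.range) →* ℂˣ) := Finite.of_equiv _ eq.symm.toEquiv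
  refine (Nat.card_le_card_of_injective _ hinj).trans (le_of_eq ?_)
  rw [Nat.card_congr eq.toEquiv, ← Subgroup.index_eq_card]
  have h1 : ψ.range.index = Nat.card ψ.ker := by
    have e1 := ψ.range.card_mul_index
    have e2 := ψ.ker.card_mul_index
    rw [Subgroup.index_ker] at e2
    have hpos : 0 < Nat.card ψ.range := Nat.card_pos
    exact Nat.eq_of_mul_eq_mul_left hpos (by rw [e1, mul_comm, e2])
  rw [h1]
  exact Nat.card_congr (Equiv.subtypeEquivRight hker)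

/-- The number of linear characters. -/
theorem card_chars (M : Type u) [CommGroup M] [Finite M] : Nat.card (M →* ℂˣ) = Nat.card M := by
  obtain ⟨eq⟩ := CommGroup.monoidHom_mulEquiv_of_hasEnoughRootsOfUnity M ℂ
  exact Nat.card_congr eq.toEquiv

/-- `2 (n - 1) 2^(max 1 (n / 3)) ≤ 2^n`. -/
theorem small_fix {n : ℕ} (hn : 2 ≤ n) : 2 * (n - 1) * 2 ^ max 1 (n / 3) ≤ 2 ^ n := by
  induction n using Nat.strong_induction_on with
  | _ n ih =>
    rcases lt_or_ge n 5 with hlt | hge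
    · interval_cases n <;> norm_num
    · obtain ⟨m, rfl⟩ : ∃ m, n = m + 3 := ⟨n - 3, by omega⟩
      have h1 := ih m (by omega) (by omega)
      have h2 : max 1 ((m + 3) / 3) ≤ max 1 (m / 3) + 1 := by omega
      have h3 : 2 ^ max 1 ((m + 3) / 3) ≤ 2 ^ max 1 (m / 3) * 2 :=
        (Nat.pow_le_pow_right (by norm_num) h2).trans (le_of_eq (pow_succ 2 _))
      calc 2 * (m + 3 - 1) * 2 ^ max 1 ((m + 3) / 3)
          ≤ 2 * (m + 3 - 1) * (2 ^ max 1 (m / 3) * 2) := Nat.mul_le_mul_left _ h3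
        _ = (m + 2) * (2 ^ max 1 (m / 3) * 4) := by
            rw [show m + 3 - 1 = m + 2 by omega]; ring
        _ ≤ (4 * (m - 1)) * (2 ^ max 1 (m / 3) * 4) := Nat.mul_le_mul_right _ (by omega)
        _ = 8 * (2 * (m - 1) * 2 ^ max 1 (m / 3)) := by ring
        _ ≤ 8 * 2 ^ m := Nat.mul_le_mul_left _ h1
        _ = _ := by rw [pow_add]; ring

/-- Geometric sums. -/
theorem geom_le {c : ℕ} (hc : 2 ≤ c) (k : ℕ) : ∑ i ∈ Finset.range (k + 1), c ^ i ≤ 2 * c ^ k := by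
  induction k with
  | zero => simp
  | succ k ih =>
    rw [Finset.sum_range_succ]
    have : 2 * c ^ k ≤ c ^ (k + 1) := by rw [pow_succ', ]; exact Nat.mul_le_mul_right _ hc
    omega

/-- The two counting inequalities. -/
theorem count_ineq {q n w e C S : ℕ} (hq : q = 2 ^ n) (hn : 2 ≤ n) (hw : w ≤ n) (he : 3 ≤ e)
    (hC : C = 2 ^ max 1 (n / 3)) (hS : S + (q - 1) = (q - 1) * w) :
    1 + S * ∑ i ∈ Finset.range (e - 1), C ^ i < q ^ (e - 1) ∧
      2 * (1 + S * ∑ i ∈ Finset.range e, C ^ i) ≤ q ^ e := by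
  obtain ⟨k, rfl⟩ : ∃ k, e = k + 3 := ⟨e - 3, by omega⟩
  have hC2 : 2 ≤ C := hC ▸ Nat.le_self_pow (by omega) 2
  have hq4 : 4 ≤ q := hq ▸ (show (4 : ℕ) = 2 ^ 2 by norm_num) ▸ Nat.pow_le_pow_right (by norm_num) hn
  have hCq : 2 * C ≤ q := by
    rw [hC, hq, ← pow_succ']
    exact Nat.pow_le_pow_right (by norm_num) (by omega)
  have hbase : 2 * (n - 1) * C ≤ q := hC ▸ hq ▸ small_fix hn
  have hS' : S ≤ (q - 1) * (n - 1) := by
    have : (q - 1) * w ≤ (q - 1) * n := Nat.mul_le_mul_left _ hw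
    have h2 : (q - 1) * n = (q - 1) * (n - 1) + (q - 1) := by
      conv_lhs => rw [show n = (n - 1) + 1 by omega]
      ring
    omega
  -- `2 (n-1) C^(k+1) ≤ q^(k+1)`
  have hP : 2 * (n - 1) * C ^ (k + 1) ≤ q ^ (k + 1) := by
    calc 2 * (n - 1) * C ^ (k + 1) = 2 * (n - 1) * C * C ^ k := by ring
      _ ≤ q * q ^ k := Nat.mul_le_mul hbase (Nat.pow_le_pow_left (by omega) k)
      _ = _ := by ring
  have h1 : S * ∑ i ∈ Finset.range (k + 3 - 1), C ^ i ≤ (q - 1) * q ^ (k + 1) := by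
    calc S * ∑ i ∈ Finset.range (k + 3 - 1), C ^ i ≤ ((q - 1) * (n - 1)) * (2 * C ^ (k + 1)) :=
          Nat.mul_le_mul hS' (geom_le hC2 (k + 1))
      _ = (q - 1) * (2 * (n - 1) * C ^ (k + 1)) := by ring
      _ ≤ _ := Nat.mul_le_mul_left _ hP
  have hpow : (q - 1) * q ^ (k + 1) + q ^ (k + 1) = q ^ (k + 2) := by
    rw [← Nat.succ_mul, show (q - 1).succ = q by omega]; ring
  have hq1 : 4 ≤ q ^ (k + 1) := hq4.trans (Nat.le_self_pow (by omega) q)
  refine ⟨by rw [show k + 3 - 1 = k + 2 from rfl] at *; omega, ?_⟩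
  have h2 : 2 * (S * ∑ i ∈ Finset.range (k + 3), C ^ i) ≤ (q - 1) * q ^ (k + 2) := by
    calc 2 * (S * ∑ i ∈ Finset.range (k + 3), C ^ i)
        ≤ 2 * (((q - 1) * (n - 1)) * (2 * C ^ (k + 2))) :=
          Nat.mul_le_mul_left _ (Nat.mul_le_mul hS' (geom_le hC2 (k + 2)))
      _ = (q - 1) * ((2 * (n - 1) * C ^ (k + 1)) * (2 * C)) := by ring
      _ ≤ (q - 1) * (q ^ (k + 1) * q) := Nat.mul_le_mul_left _ (Nat.mul_le_mul hP hCq)
      _ = _ := by ring
  have hpow' : (q - 1) * q ^ (k + 2) + q ^ (k + 2) = q ^ (k + 3) := by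
    rw [← Nat.succ_mul, show (q - 1).succ = q by omega]; ring
  have hq2 : 4 ≤ q ^ (k + 2) := hq4.trans (Nat.le_self_pow (by omega) q)
  omega

end Cfsg.Agent.Lib.BenderSuzuki.Abelian.Fixed
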