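import Cfsg.Agent.Lib.BenderSuzuki.Abelian.Galois
import Cfsg.Agent.Lib.BenderSuzuki.Abelian.Fixed

/-!
# Linear characters of the kernel moved by every non-trivial element of the two-point stabiliser

For `|Q| = q ^ e`, `e ≥ 3`, at least half of the linear characters of `Q` are of this kind, some of
them trivial on the involutions and some not.
-/

set_option autoImplicit false
set_option linter.unusedSectionVars false
set_option linter.style.haveILetI false
set_option linter.unusedSimpArgs false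

namespace Cfsg.Agent.Lib.BenderSuzuki.Abelian.Count

open MulAction Cfsg.Agent.Lib.RankOne.Basic Cfsg.Agent.Lib.RankOne.Involution
open Cfsg.Agent.Lib.BenderSuzuki Cfsg.Agent.Lib.BenderSuzuki.Abelian.Setup
open Cfsg.Agent.Lib.BenderSuzuki.Abelian.Galois

universe u v

variable {G : Type u} {Ω : Type v} [Group G] [Finite G] [MulAction G Ω] {a : Ω} {t : G}
  {Q C : Subgroup G} (h : Ctx G Ω a t Q C)

/-- Conjugation by an element of `D` on `Q`. -/
def conjQ (d : twoStab G a t) : Q →* Q where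
  toFun x := ⟨(d : G) * x * (d : G)⁻¹, twoStab_norm h.setup d.2 x.2⟩
  map_one' := Subtype.ext (by simp)
  map_mul' x y := Subtype.ext (by simp [mul_assoc])

theorem conjQ_coe (d : twoStab G a t) (x : Q) : (conjQ h d x : G) = (d : G) * x * (d : G)⁻¹ := rfl

theorem conjQ_one : conjQ h 1 = MonoidHom.id Q :=
  MonoidHom.ext fun x => Subtype.ext
    (show (1 : G) * (x : G) * (1 : G)⁻¹ = (x : G) by simp)

theorem conjQ_mul (d d' : twoStab G a t) : conjQ h (d * d') = (conjQ h d).comp (conjQ h d') :=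
  MonoidHom.ext fun x => Subtype.ext
    (show (d : G) * d' * (x : G) * ((d : G) * d')⁻¹ = d * (d' * x * (d' : G)⁻¹) * (d : G)⁻¹ by group)

/-- The translate of a character by `d`. -/
def tw (d : twoStab G a t) (lam : Q →* ℂˣ) : Q →* ℂˣ := lam.comp (conjQ h d)

/-- A character moved by every non-trivial element of `D`. -/
def IsFree (lam : Q →* ℂˣ) : Prop := ∀ d, tw h d lam = lam → d = 1

/-- A character trivial on the involutions. -/
def TrivA (lam : Q →* ℂˣ) : Prop := ∀ x : Q, (x : G) ∈ inv1 h → lam x = 1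

include h

theorem tw_one (lam : Q →* ℂˣ) : tw h 1 lam = lam := by
  rw [tw, conjQ_one, MonoidHom.comp_id]

theorem tw_mul (d d' : twoStab G a t) (lam : Q →* ℂˣ) : tw h (d * d') lam = tw h d' (tw h d lam) := by
  rw [tw, tw, tw, conjQ_mul, MonoidHom.comp_assoc]

theorem card_fixIn_le {n : ℕ} (hn : 2 ≤ n) (hq : qNum G a = 2 ^ n) {s : G} (hs : s ∈ invs G a)
    {d : G} (hd : d ∈ twoStab G a t) (hd1 : d ≠ 1) :
    ∀ {k : ℕ} {M : Subgroup G} (_ : M ≤ Q) (_ : ∀ c ∈ C, ∀ x ∈ M, c * x * c⁻¹ ∈ M)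
      (_ : Nat.card M = qNum G a ^ k),
      Nat.card (fixIn M d) ≤
        1 + (Nat.card (fixIn (inv1 h) d) - 1) * ∑ i ∈ Finset.range k, (2 ^ max 1 (n / 3)) ^ i := by
  have hcC : Nat.card (fixIn (inv1 h) d) ≤ 2 ^ max 1 (n / 3) := by
    haveI : Fact (Nat.Prime 2) := ⟨Nat.prime_two⟩
    obtain ⟨i, hi⟩ := IsPGroup.iff_card.1
      ((h.twoGroup.to_le (inv1_le h)).to_le (inf_le_left : fixIn (inv1 h) d ≤ inv1 h))
    have h3 := card_fix_cube h hs hn hq hd hd1
    have hi' : Nat.card (fixIn (inv1 h) d) = 2 ^ i := hi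
    rw [hi', hq, ← pow_mul] at h3
    have h4 := (Nat.pow_le_pow_iff_right (by norm_num : 1 < 2)).1 h3
    rw [hi']
    exact Nat.pow_le_pow_right (by norm_num) (by omega)
  set c := Nat.card (fixIn (inv1 h) d) with hc
  have hc1 : 1 ≤ c := Nat.card_pos
  intro k
  induction k with
  | zero =>
    intro M _ _ hM
    have : M = ⊥ := Subgroup.eq_bot_of_card_eq M (by rw [hM, pow_zero])
    subst this
    rw [show fixIn (⊥ : Subgroup G) d = ⊥ from le_bot_iff.1 inf_le_left, Subgroup.card_bot]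
    simp
  | succ k ih =>
    intro M hMQ hinv hM
    have hM1 : M ≠ ⊥ := fun e => by
      rw [e, Subgroup.card_bot] at hM
      have := Nat.one_lt_pow (show k + 1 ≠ 0 by omega) (show 1 < qNum G a by have := four_le_qNum h; omega)
      omega
    have hcard : Nat.card (sqImage h hMQ) = qNum G a ^ k := by
      have h1 := card_eq_mul_sqImage h hMQ hM1 hinv
      rw [hM, pow_succ] at h1
      exact (Nat.eq_of_mul_eq_mul_right (by have := four_le_qNum h; omega) h1).symm
    have hrec := ih ((sqImage_le h hMQ).trans hMQ) (sqImage_invariant h hMQ hinv) hcard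
    let φ : fixIn M d →* fixIn (sqImage h hMQ) d :=
      { toFun := fun x => ⟨(x : G) * x, mem_fixIn.2 ⟨⟨x, (mem_fixIn.1 x.2).1, rfl⟩, by
          rw [show d * ((x : G) * x) * d⁻¹ = (d * x * d⁻¹) * (d * x * d⁻¹) by group,
            (mem_fixIn.1 x.2).2]⟩⟩
        map_one' := Subtype.ext (mul_one 1)
        map_mul' := fun x y => Subtype.ext
          (sq_comm h (hMQ (mem_fixIn.1 x.2).1) (hMQ (mem_fixIn.1 y.2).1)) }
    have hker : Nat.card φ.ker ≤ c := Nat.card_le_card_of_injective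
      (fun x => (⟨((x : fixIn M d) : G), mem_fixIn.2
        ⟨⟨hMQ (mem_fixIn.1 (x : fixIn M d).2).1, congrArg Subtype.val x.2⟩,
          (mem_fixIn.1 (x : fixIn M d).2).2⟩⟩ : fixIn (inv1 h) d))
      (fun x y e => Subtype.ext (Subtype.ext (congrArg Subtype.val e :)))
    have hrange : Nat.card φ.range ≤ Nat.card (fixIn (sqImage h hMQ) d) :=
      Nat.card_le_card_of_injective _ (Subgroup.subtype_injective _)
    rw [← φ.ker.card_mul_index, Subgroup.index_ker]
    refine (Nat.mul_le_mul hker (hrange.trans hrec)).trans ?_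
    set C' := 2 ^ max 1 (n / 3)
    set S := ∑ i ∈ Finset.range k, C' ^ i
    have hsum : ∑ i ∈ Finset.range (k + 1), C' ^ i = C' * S + 1 := by
      rw [Finset.sum_range_succ', pow_zero, Finset.mul_sum]
      simp [pow_succ, mul_comm]
    rw [hsum]
    obtain ⟨c', hc'⟩ : ∃ c', c = c' + 1 := ⟨c - 1, by omega⟩
    rw [hc', Nat.add_sub_cancel]
    have : (c' + 1) * S ≤ C' * S := Nat.mul_le_mul_right _ (hc' ▸ hcC)
    nlinarith

/-- The fixed characters. -/
theorem card_fixed_le (d : twoStab G a t) :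
    Nat.card {lam : Q →* ℂˣ // tw h d lam = lam} ≤ Nat.card (fixIn Q (d : G)) := by
  letI : CommGroup Q := { (inferInstance : Group Q) with
    mul_comm := fun x y => Subtype.ext (h.comm x x.2 y y.2) }
  refine (Fixed.card_fixed_chars (conjQ h d)).trans (le_of_eq (Nat.card_congr
    { toFun := fun x => ⟨(x.1 : G), mem_fixIn.2 ⟨x.1.2, congrArg Subtype.val x.2⟩⟩
      invFun := fun x => ⟨⟨x, (mem_fixIn.1 x.2).1⟩, Subtype.ext (mem_fixIn.1 x.2).2⟩
      left_inv := fun _ => rfl
      right_inv := fun _ => rfl }))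

/-- The fixed characters trivial on the involutions, through the squares. -/
theorem card_fixed_triv_le (d : twoStab G a t) :
    Nat.card {lam : Q →* ℂˣ // TrivA h lam ∧ tw h d lam = lam} ≤
      Nat.card (fixIn (sqImage h (le_refl Q)) (d : G)) := by
  classical
  set P := sqImage h (le_refl Q) with hP
  letI : CommGroup P := { (inferInstance : Group P) with
    mul_comm := fun x y => Subtype.ext (h.comm x (sqImage_le h le_rfl x.2) y (sqImage_le h le_rfl y.2)) }
  let φ : Q →* P :=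
    { toFun := fun x => ⟨(x : G) * x, x, x.2, rfl⟩
      map_one' := Subtype.ext (mul_one 1)
      map_mul' := fun x y => Subtype.ext (sq_comm h x.2 y.2) }
  have hφ : Function.Surjective φ := by
    rintro ⟨_, x, hx, rfl⟩
    exact ⟨⟨x, hx⟩, rfl⟩
  let dP : P →* P :=
    { toFun := fun y => ⟨(d : G) * y * (d : G)⁻¹, by
        obtain ⟨x, hx, e⟩ := y.2
        exact ⟨(d : G) * x * (d : G)⁻¹, twoStab_norm h.setup d.2 hx, by rw [← e]; group⟩⟩
      map_one' := Subtype.ext (by simp)
      map_mul' := fun x y => Subtype.ext (by simp [mul_assoc]) }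
  have hdP : ∀ x, dP (φ x) = φ (conjQ h d x) := fun x => Subtype.ext
    (show (d : G) * ((x : G) * x) * (d : G)⁻¹ = (d * x * (d : G)⁻¹) * (d * x * (d : G)⁻¹) by group)
  have hker : ∀ lam : {lam : Q →* ℂˣ // TrivA h lam ∧ tw h d lam = lam}, φ.ker ≤ lam.1.ker :=
    fun lam x hx => lam.2.1 x ⟨x.2, congrArg Subtype.val hx⟩
  let desc : {lam : Q →* ℂˣ // TrivA h lam ∧ tw h d lam = lam} → {μ : P →* ℂˣ // μ.comp dP = μ} :=
    fun lam => ⟨φ.liftOfSurjective hφ ⟨lam.1, hker lam⟩, by
      refine MonoidHom.ext fun y => ?_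
      obtain ⟨x, rfl⟩ := hφ y
      rw [MonoidHom.comp_apply, hdP]
      show (φ.liftOfRightInverse _ (Function.rightInverse_surjInv hφ) ⟨lam.1, hker lam⟩) (φ (conjQ h d x)) =
        (φ.liftOfRightInverse _ (Function.rightInverse_surjInv hφ) ⟨lam.1, hker lam⟩) (φ x)
      rw [MonoidHom.liftOfRightInverse_comp_apply, MonoidHom.liftOfRightInverse_comp_apply]
      exact DFunLike.congr_fun lam.2.2 x⟩
  have hinj : Function.Injective desc := by
    intro l l' e
    refine Subtype.ext (MonoidHom.ext fun x => ?_)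
    have e' := DFunLike.congr_fun (congrArg Subtype.val e) (φ x)
    simp only [desc] at e'
    rwa [show φ.liftOfSurjective hφ ⟨l.1, hker l⟩ (φ x) = l.1 x from
        MonoidHom.liftOfRightInverse_comp_apply _ _ _ ⟨l.1, hker l⟩ x,
      show φ.liftOfSurjective hφ ⟨l'.1, hker l'⟩ (φ x) = l'.1 x from
        MonoidHom.liftOfRightInverse_comp_apply _ _ _ ⟨l'.1, hker l'⟩ x] at e'
  obtain ⟨eq⟩ := CommGroup.monoidHom_mulEquiv_of_hasEnoughRootsOfUnity P ℂ
  haveI : Finite (P →* ℂˣ) := Finite.of_equiv _ eq.symm.toEquiv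
  refine ((Nat.card_le_card_of_injective _ hinj).trans (Fixed.card_fixed_chars dP)).trans
    (le_of_eq (Nat.card_congr
    { toFun := fun x => ⟨(x.1 : G), mem_fixIn.2 ⟨x.1.2, congrArg Subtype.val x.2⟩⟩
      invFun := fun x => ⟨⟨x, (mem_fixIn.1 x.2).1⟩, Subtype.ext (mem_fixIn.1 x.2).2⟩
      left_inv := fun _ => rfl
      right_inv := fun _ => rfl }))

/-- Double counting of pairs (element of `D`, fixed involution). -/
theorem sum_fix [Fintype (twoStab G a t)] [DecidableEq (twoStab G a t)] {s : G} (hs : s ∈ invs G a) :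
    (∑ d ∈ (Finset.univ : Finset (twoStab G a t)).erase 1,
        (Nat.card (fixIn (inv1 h) (d : G)) - 1)) + (qNum G a - 1) =
      (qNum G a - 1) * Nat.card (wGrp h s) := by
  classical
  letI := Fintype.ofFinite G
  have hsub : ∀ d : twoStab G a t, Nat.card (fixIn (inv1 h) (d : G)) - 1 =
      Nat.card {y : G // y ∈ invs G a ∧ (d : G) * y * (d : G)⁻¹ = y} := by
    intro d
    rw [← Nat.card_congr (Equiv.optionSubtypeNe (1 : fixIn (inv1 h) (d : G))), Finite.card_option,
      Nat.add_sub_cancel]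
    exact Nat.card_congr
      { toFun := fun x => ⟨(x.1 : G), (mem_invs_iff h).2 ⟨(mem_fixIn.1 x.1.2).1,
          fun e => x.2 (Subtype.ext e)⟩, (mem_fixIn.1 x.1.2).2⟩
        invFun := fun x => ⟨⟨x.1, mem_fixIn.2 ⟨((mem_invs_iff h).1 x.2.1).1, x.2.2⟩⟩,
          fun e => ((mem_invs_iff h).1 x.2.1).2 (congrArg Subtype.val e)⟩
        left_inv := fun _ => rfl
        right_inv := fun _ => rfl }
  have htot : ∑ d : twoStab G a t, Nat.card {y : G // y ∈ invs G a ∧ (d : G) * y * (d : G)⁻¹ = y} =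
      Nat.card C * Nat.card (wGrp h s) := by
    rw [← Nat.card_sigma, ← Nat.card_prod]
    symm
    refine Nat.card_congr (Equiv.ofBijective (fun p : C × wGrp h s =>
      (⟨⟨(p.1 : G) * p.2 * (p.1 : G)⁻¹, (twoStab G a t).mul_mem ((twoStab G a t).mul_mem (C_le h p.1.2) p.2.2.1)
          ((twoStab G a t).inv_mem (C_le h p.1.2))⟩, (p.1 : G) * s * (p.1 : G)⁻¹,
        (mem_invs_iff h).2 ⟨inv1_conj h (C_le h p.1.2) ((mem_invs_iff h).1 hs).1,
          fun e => ((mem_invs_iff h).1 hs).2 (by simpa using e)⟩, by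
        show (p.1 : G) * p.2 * (p.1 : G)⁻¹ * (p.1 * s * (p.1 : G)⁻¹) *
          ((p.1 : G) * p.2 * (p.1 : G)⁻¹)⁻¹ = (p.1 : G) * s * (p.1 : G)⁻¹
        calc _ = (p.1 : G) * ((p.2 : G) * s * (p.2 : G)⁻¹) * (p.1 : G)⁻¹ := by group
          _ = _ := by rw [((mem_wGrp h).1 p.2.2).2]⟩ :
        Σ d : twoStab G a t, {y : G // y ∈ invs G a ∧ (d : G) * y * (d : G)⁻¹ = y})) ⟨?_, ?_⟩)
    · rintro ⟨c, w⟩ ⟨c', w'⟩ e
      have e1 : (c : G) * s * (c : G)⁻¹ = c' * s * (c' : G)⁻¹ :=
        congrArg (fun z : Σ d : twoStab G a t, {y : G // y ∈ invs G a ∧ (d : G) * y * (d : G)⁻¹ = y} =>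
          (z.2 : G)) e
      have e2 : (c : G) * w * (c : G)⁻¹ = c' * w' * (c' : G)⁻¹ :=
        congrArg (fun z : Σ d : twoStab G a t, {y : G // y ∈ invs G a ∧ (d : G) * y * (d : G)⁻¹ = y} =>
          (z.1 : G)) e
      have hcc : (c : G) = c' := (existsUnique_C h hs ((mem_invs_iff h).2
        ⟨inv1_conj h (C_le h c'.2) ((mem_invs_iff h).1 hs).1,
          fun e => ((mem_invs_iff h).1 hs).2 (by simpa using e)⟩)).unique ⟨c.2, e1⟩ ⟨c'.2, rfl⟩
      rw [hcc] at e2
      exact Prod.ext (Subtype.ext hcc) (Subtype.ext (mul_left_cancel (mul_right_cancel e2)))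
    · rintro ⟨⟨d, hd⟩, y, hy, hdy⟩
      obtain ⟨c, ⟨hc, rfl⟩, -⟩ := existsUnique_C h hs hy
      have hdy' : d * (c * s * c⁻¹) * d⁻¹ = c * s * c⁻¹ := hdy
      refine ⟨(⟨c, hc⟩, ⟨c⁻¹ * d * c, (mem_wGrp h).2 ⟨(twoStab G a t).mul_mem
        ((twoStab G a t).mul_mem ((twoStab G a t).inv_mem (C_le h hc)) hd) (C_le h hc), ?_⟩⟩), ?_⟩
      · calc c⁻¹ * d * c * s * (c⁻¹ * d * c)⁻¹ = c⁻¹ * (d * (c * s * c⁻¹) * d⁻¹) * c := by group
          _ = s := by rw [hdy']; group
      · refine Sigma.subtype_ext (Subtype.ext ?_) rfl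
        show c * (c⁻¹ * d * c) * c⁻¹ = d
        group
  have h1 : Nat.card {y : G // y ∈ invs G a ∧ ((1 : twoStab G a t) : G) * y * ((1 : twoStab G a t) : G)⁻¹ = y} =
      qNum G a - 1 := by
    rw [qNum, Nat.add_sub_cancel]
    exact Nat.card_congr (Equiv.subtypeEquivRight fun y => by simp)
  have hC := card_C h
  rw [Finset.sum_congr rfl fun d _ => hsub d, ← h1, Finset.sum_erase_add _ _ (Finset.mem_univ _), htot, h1]
  congr 1
  omega

/-- Many free characters. -/
theorem exists_free {e n : ℕ} (he : 3 ≤ e) (hQ : Nat.card Q = qNum G a ^ e) (hn : 2 ≤ n)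
    (hq : qNum G a = 2 ^ n) {s : G} (hs : s ∈ invs G a) :
    ∃ lam₀ μ : Q →* ℂˣ, IsFree h lam₀ ∧ TrivA h lam₀ ∧ IsFree h μ ∧ ¬ TrivA h μ ∧
      qNum G a ^ e ≤ 2 * Nat.card {lam : Q →* ℂˣ // IsFree h lam} := by
  classical
  letI := Fintype.ofFinite (twoStab G a t)
  letI : CommGroup Q := { (inferInstance : Group Q) with
    mul_comm := fun x y => Subtype.ext (h.comm x x.2 y y.2) }
  obtain ⟨eq⟩ := CommGroup.monoidHom_mulEquiv_of_hasEnoughRootsOfUnity Q ℂ
  haveI : Finite (Q →* ℂˣ) := Finite.of_equiv _ eq.symm.toEquiv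
  letI := Fintype.ofFinite (Q →* ℂˣ)
  set q := qNum G a with hqdef
  set w := Nat.card (wGrp h s) with hw
  set C' := 2 ^ max 1 (n / 3) with hC'
  set S := ∑ d ∈ (Finset.univ : Finset (twoStab G a t)).erase 1,
        (Nat.card (fixIn (inv1 h) (d : G)) - 1) with hS
  obtain ⟨hA, hB⟩ := Fixed.count_ineq hq hn (galois_bounds h hs hn hq).1 he hC' (sum_fix h hs)
  rw [← hS] at hA hB
  -- counting the non-free characters in a set
  have bound : ∀ (p : (Q →* ℂˣ) → Prop) [DecidablePred p] (k : ℕ),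
      (∀ d : twoStab G a t, (d : G) ≠ 1 → Nat.card {lam : Q →* ℂˣ // p lam ∧ tw h d lam = lam} ≤
        1 + (Nat.card (fixIn (inv1 h) (d : G)) - 1) * ∑ i ∈ Finset.range k, C' ^ i) →
      (p 1) →
      (Finset.univ.filter fun lam => p lam ∧ ¬ IsFree h lam).card ≤
        1 + S * ∑ i ∈ Finset.range k, C' ^ i := by
    intro p _ k hk hp1
    have hsub : (Finset.univ.filter fun lam => p lam ∧ ¬ IsFree h lam) ⊆
        insert 1 (((Finset.univ : Finset (twoStab G a t)).erase 1).biUnion fun d =>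
          (Finset.univ.filter fun lam => p lam ∧ tw h d lam = lam).erase 1) := by
      intro lam hlam
      obtain ⟨hp, hnf⟩ := (Finset.mem_filter.1 hlam).2
      rw [IsFree] at hnf
      push Not at hnf
      obtain ⟨d, hd, hd1⟩ := hnf
      by_cases h1 : lam = 1
      · simp [h1]
      refine Finset.mem_insert_of_mem (Finset.mem_biUnion.2 ⟨d, ?_, ?_⟩)
      · simp [hd1]
      · simp [h1, hp, hd]
    refine (Finset.card_le_card hsub).trans ((Finset.card_insert_le _ _).trans ?_)
    rw [add_comm]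
    refine Nat.add_le_add_left (Finset.card_biUnion_le.trans ?_) 1
    rw [hS, Finset.sum_mul]
    refine Finset.sum_le_sum fun d hd => ?_
    have h1 : (1 : Q →* ℂˣ) ∈ Finset.univ.filter fun lam => p lam ∧ tw h d lam = lam := by
      simp only [Finset.mem_filter, Finset.mem_univ, true_and]
      exact ⟨hp1, MonoidHom.ext fun x => rfl⟩
    rw [Finset.card_erase_of_mem h1, ← Fintype.card_subtype, ← Nat.card_eq_fintype_card]
    have := hk d fun e' => Finset.ne_of_mem_erase hd (Subtype.ext e')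
    omega
  have hqd : Nat.card (Q →* ℂˣ) = q ^ e := by rw [Nat.card_congr eq.toEquiv, hQ]
  have hfree_le : (Finset.univ.filter fun lam : Q →* ℂˣ => True ∧ ¬ IsFree h lam).card ≤
      1 + S * ∑ i ∈ Finset.range e, C' ^ i := by
    refine bound (fun _ => True) e (fun d hd => ?_) trivial
    refine le_trans (le_of_eq (Nat.card_congr (Equiv.subtypeEquivRight (q := fun lam => tw h d lam = lam) fun lam => by simp))) ?_
    exact (card_fixed_le h d).trans (card_fixIn_le h hn hq hs d.2 hd le_rfl (Q_invariant h) hQ)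
  have hP : Nat.card (sqImage h (le_refl Q)) = q ^ (e - 1) := by
    have hQ1 : Q ≠ ⊥ := fun e' => by
      rw [e', Subgroup.card_bot] at hQ
      have := Nat.one_lt_pow (show e ≠ 0 by omega) (show 1 < q by have := four_le_qNum h; omega)
      omega
    have h1 := card_eq_mul_sqImage h (le_refl Q) hQ1 (Q_invariant h)
    rw [hQ, show e = e - 1 + 1 by omega, pow_succ] at h1
    exact (Nat.eq_of_mul_eq_mul_right (by have := four_le_qNum h; omega) h1).symm
  have htriv_le : (Finset.univ.filter fun lam : Q →* ℂˣ => TrivA h lam ∧ ¬ IsFree h lam).card ≤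
      1 + S * ∑ i ∈ Finset.range (e - 1), C' ^ i := by
    refine bound (TrivA h) (e - 1) (fun d hd => ?_) fun x _ => rfl
    exact (card_fixed_triv_le h d).trans (card_fixIn_le h hn hq hs d.2 hd (sqImage_le h le_rfl)
      (sqImage_invariant h le_rfl (Q_invariant h)) hP)
  have htriv : Nat.card {lam : Q →* ℂˣ // TrivA h lam} = q ^ (e - 1) := by
    letI : CommGroup (sqImage h (le_refl Q)) := { (inferInstance : Group (sqImage h (le_refl Q))) with
      mul_comm := fun x y => Subtype.ext (h.comm x (sqImage_le h le_rfl x.2) y (sqImage_le h le_rfl y.2)) }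
    let φ : Q →* sqImage h (le_refl Q) :=
      { toFun := fun x => ⟨(x : G) * x, x, x.2, rfl⟩
        map_one' := Subtype.ext (mul_one 1)
        map_mul' := fun x y => Subtype.ext (sq_comm h x.2 y.2) }
    have hφ : Function.Surjective φ := by
      rintro ⟨_, x, hx, rfl⟩
      exact ⟨⟨x, hx⟩, rfl⟩
    rw [← hP, ← Fixed.card_chars (sqImage h (le_refl Q))]
    refine Nat.card_congr ((Equiv.subtypeEquivRight fun lam => ?_).trans (φ.liftOfSurjective hφ))
    exact ⟨fun hl x hx => hl x ⟨x.2, congrArg Subtype.val hx⟩,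
      fun hl x hx => hl (Subtype.ext hx.2)⟩
  rw [Nat.card_eq_fintype_card, Fintype.card_subtype] at htriv
  have hfreecard : Nat.card {lam : Q →* ℂˣ // IsFree h lam} +
      (Finset.univ.filter fun lam : Q →* ℂˣ => True ∧ ¬ IsFree h lam).card = q ^ e := by
    rw [Nat.card_eq_fintype_card, Fintype.card_subtype, ← hqd, Nat.card_eq_fintype_card, ← Finset.card_univ]
    simp only [true_and]
    exact Finset.card_filter_add_card_filter_not _
  obtain ⟨lam₀, hl0, hl0'⟩ : ∃ lam, TrivA h lam ∧ IsFree h lam := by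
    by_contra hall
    push Not at hall
    have : (Finset.univ.filter fun lam : Q →* ℂˣ => TrivA h lam) ⊆
        Finset.univ.filter fun lam : Q →* ℂˣ => TrivA h lam ∧ ¬ IsFree h lam := fun lam hlam => by
      simp only [Finset.mem_filter, Finset.mem_univ, true_and] at hlam ⊢
      exact ⟨hlam, hall lam hlam⟩
    have := Finset.card_le_card this
    omega
  obtain ⟨μ, hμ, hμ'⟩ : ∃ μ, IsFree h μ ∧ ¬ TrivA h μ := by
    by_contra hall
    push Not at hall
    have : (Finset.univ.filter fun lam : Q →* ℂˣ => IsFree h lam) ⊆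
        Finset.univ.filter fun lam : Q →* ℂˣ => TrivA h lam := fun lam hlam => by
      simp only [Finset.mem_filter, Finset.mem_univ, true_and] at hlam ⊢
      exact hall lam hlam
    have := Finset.card_le_card this
    rw [Nat.card_eq_fintype_card, Fintype.card_subtype] at hfreecard
    have h4 : 4 * q ^ (e - 1) ≤ q ^ e := by
      conv_rhs => rw [show e = e - 1 + 1 by omega, pow_succ']
      exact Nat.mul_le_mul_right _ (four_le_qNum h)
    have : 0 < q ^ (e - 1) := Nat.pow_pos (by have := four_le_qNum h; omega)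
    omega
  exact ⟨lam₀, μ, hl0', hl0, hμ, hμ', by omega⟩

end Cfsg.Agent.Lib.BenderSuzuki.Abelian.Count
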