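import Cfsg.Agent.Lib.BenderSuzuki.Abelian.Alg
import Cfsg.Agent.Lib.BenderSuzuki.Abelian.Circle
import Cfsg.Agent.S1165
import Cfsg.Agent.S1166

/-!
# No abelian kernel of exponent 4

For `|Q| = q²` the subring of `End Q` generated by the inverted elements is a ring `R ≅ Q` with
`4 = 0`; the identities of the set-up satisfy `Alg.Rules`, which are contradictory.
-/

set_option autoImplicit false
set_option linter.unusedSectionVars false
set_option linter.style.haveILetI false
set_option linter.unusedSimpArgs false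

namespace Cfsg.Agent.Lib.BenderSuzuki.Abelian.Four

open MulAction Cfsg.Agent.Lib.RankOne.Basic Cfsg.Agent.Lib.RankOne.Involution
open Cfsg.Agent.Lib.BenderSuzuki Cfsg.Agent.Lib.BenderSuzuki.Abelian.Setup

universe u v

variable {G : Type u} {Ω : Type v} [Group G] [Finite G] [MulAction G Ω] {a : Ω} {t : G}
  {Q C : Subgroup G}

theorem sq_mul (h : Ctx G Ω a t Q C) {x y : G} (hx : x ∈ Q) (hy : y ∈ Q) :
    x * y * (x * y) = x * x * (y * y) := by
  calc x * y * (x * y) = x * (y * x) * y := by group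
    _ = x * (x * y) * y := by rw [h.comm y hy x hx]
    _ = _ := by group

theorem sq_mem (h : Ctx G Ω a t Q C) (he : Nat.card Q = qNum G a ^ 2) :
    (∀ w ∈ Q, w * w ∈ inv1 h) ∧ ∀ y ∈ inv1 h, ∃ w ∈ Q, w * w = y := by
  have hq := four_le_qNum h
  have hQ1 : Q ≠ ⊥ := fun e => by
    rw [e, Subgroup.card_bot] at he
    have := Nat.one_lt_pow two_ne_zero (show 1 < qNum G a by omega)
    omega
  have hsub := card_eq_mul_sqImage h (le_refl Q) hQ1 (Q_invariant h)
  rw [he, sq] at hsub
  have hcard : Nat.card (sqImage h (le_refl Q)) = qNum G a :=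
    (Nat.eq_of_mul_eq_mul_right (by omega) hsub).symm
  have hle := inv1_le_of_invariant h (sqImage_le h le_rfl) (fun e => by
    rw [e, Subgroup.card_bot] at hcard; omega) (sqImage_invariant h le_rfl (Q_invariant h))
  have heq : inv1 h = sqImage h (le_refl Q) :=
    Subgroup.eq_of_le_of_card_ge hle (by rw [card_inv1 h, hcard])
  exact ⟨fun w hw => by rw [heq]; exact ⟨w, hw, rfl⟩, fun y hy => by rw [heq] at hy; exact hy⟩

theorem not_card_sq (h : Ctx G Ω a t Q C) : Nat.card Q ≠ qNum G a ^ 2 := by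
  classical
  intro he
  have hS := h.setup
  have hq4 := four_le_qNum h
  obtain ⟨s, r, hs, hr, hr1, esr, etr⟩ := exists_sr h
  have hr2 : r * r ≠ 1 := Circle.not_invol h he hs hr hr1 esr
  obtain ⟨hsqA, hsqsurj⟩ := sq_mem h he
  have hexp4 : ∀ w ∈ Q, w * w * (w * w) = 1 := fun w hw => (hsqA w hw).2
  letI : CommGroup Q := { (inferInstance : Group Q) with
    mul_comm := fun x y => Subtype.ext (h.comm x x.2 y y.2) }
  letI : Fintype C := Fintype.ofFinite C
  letI : CommGroup C := { (inferInstance : Group C) with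
    mul_comm := fun x y => Subtype.ext (C_comm h x.2 y.2) }
  let Cj : C →* AddMonoid.End (Additive Q) :=
    { toFun := fun c => MonoidHom.toAdditive
        { toFun := fun x : Q => (⟨(c : G) * x * (c : G)⁻¹, Q_invariant h c c.2 x x.2⟩ : Q)
          map_one' := Subtype.ext (by simp)
          map_mul' := fun x y => Subtype.ext (by simp [mul_assoc]) }
      map_one' := AddMonoidHom.ext fun x => Additive.toMul.injective (Subtype.ext
        (show (1 : G) * ((Additive.toMul x : Q) : G) * (1 : G)⁻¹ = ((Additive.toMul x : Q) : G) by simp))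
      map_mul' := fun c d => AddMonoidHom.ext fun x => Additive.toMul.injective (Subtype.ext
        (show (c : G) * d * ((Additive.toMul x : Q) : G) * ((c : G) * d)⁻¹ =
          c * (d * ((Additive.toMul x : Q) : G) * (d : G)⁻¹) * (c : G)⁻¹ by group)) }
  let R : Subring (AddMonoid.End (Additive Q)) := Subring.closure (Set.range Cj)
  haveI hRc : IsMulCommutative R := by
    refine Subring.isMulCommutative_closure ?_
    rintro _ ⟨c, rfl⟩ _ ⟨d, rfl⟩
    rw [← map_mul, mul_comm, map_mul]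
  letI : CommRing R := { (inferInstance : Ring R) with mul_comm := mul_comm' }
  let τ : C →* R := Cj.codRestrict R.toSubmonoid fun c => Subring.subset_closure ⟨c, rfl⟩
  let r₀ : Additive Q := Additive.ofMul ⟨r, hr⟩
  let val : R → G := fun x =>
    ((Additive.toMul ((x : AddMonoid.End (Additive Q)) r₀) : Q) : G)
  have val_mem : ∀ x, val x ∈ Q := fun x => SetLike.coe_mem _
  have val_one : val 1 = r := rfl
  have val_zero : val 0 = 1 := rfl
  have val_add : ∀ x y, val (x + y) = val x * val y := fun _ _ => rfl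
  have val_neg : ∀ x, val (-x) = (val x)⁻¹ := fun x => by
    rw [eq_inv_iff_mul_eq_one, ← val_add, neg_add_cancel, val_zero]
  have val_sub : ∀ x y, val (x - y) = val x * (val y)⁻¹ := fun x y => by
    rw [sub_eq_add_neg, val_add, val_neg]
  have val_two : ∀ x, val (2 * x) = val x * val x := fun x => by rw [two_mul, val_add]
  have val_τ : ∀ (c : C) x, val (τ c * x) = c * val x * (c : G)⁻¹ := fun _ _ => rfl
  have val_τ1 : ∀ c : C, val (τ c) = c * r * (c : G)⁻¹ := fun c => by
    rw [← mul_one (τ c), val_τ, val_one]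
  -- injectivity and surjectivity of the evaluation at `r`
  let M : Subgroup G :=
    { carrier := {z | ∃ x : R, val x = z}
      one_mem' := ⟨0, val_zero⟩
      mul_mem' := by rintro _ _ ⟨x, rfl⟩ ⟨y, rfl⟩; exact ⟨x + y, val_add x y⟩
      inv_mem' := by rintro _ ⟨x, rfl⟩; exact ⟨-x, val_neg x⟩ }
  have hMQ : M ≤ Q := by rintro _ ⟨x, rfl⟩; exact val_mem x
  have hMinv : ∀ c ∈ C, ∀ x ∈ M, c * x * c⁻¹ ∈ M := by
    rintro c hc _ ⟨x, rfl⟩
    exact ⟨τ ⟨c, hc⟩ * x, val_τ ⟨c, hc⟩ x⟩
  have hMtop : ∀ z ∈ Q, ∃ x : R, val x = z := by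
    have hrM : r ∈ M := ⟨1, val_one⟩
    have hM1 : M ≠ ⊥ := fun e => hr1 (by rw [e] at hrM; exact Subgroup.mem_bot.1 hrM)
    have h1 := card_eq_mul_sqImage h hMQ hM1 hMinv
    have hrr : r * r ∈ sqImage h hMQ := ⟨r, hrM, rfl⟩
    have h3 := inv1_le_of_invariant h ((sqImage_le h hMQ).trans hMQ) (fun e => hr2 (by
      rw [e] at hrr; exact Subgroup.mem_bot.1 hrr)) (sqImage_invariant h hMQ hMinv)
    have h4 := Nat.le_of_dvd Nat.card_pos (Subgroup.card_dvd_of_le h3)
    rw [card_inv1 h] at h4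
    have : M = Q := Subgroup.eq_of_le_of_card_ge hMQ (by
      rw [h1, he, sq]; exact Nat.mul_le_mul_right _ h4)
    intro z hz
    rw [← this] at hz
    exact hz
  have val_inj : Function.Injective val := by
    intro x y e
    have h0 : val (x - y) = 1 := by rw [val_sub, e, mul_inv_cancel]
    refine sub_eq_zero.1 (Subtype.ext (AddMonoidHom.ext fun w => ?_))
    obtain ⟨⟨w, hw⟩, rfl⟩ := Additive.ofMul.surjective w
    obtain ⟨z, rfl⟩ := hMtop w hw
    have h1 : val ((x - y) * z) = 1 := by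
      rw [mul_comm]
      show ((Additive.toMul ((z : AddMonoid.End (Additive Q))
        (((x - y : R) : AddMonoid.End (Additive Q)) r₀)) : Q) : G) = 1
      rw [show ((x - y : R) : AddMonoid.End (Additive Q)) r₀ = 0 from
        Additive.toMul.injective (Subtype.ext h0), map_zero]
      rfl
    exact Additive.toMul.injective (Subtype.ext h1)
  -- `2 ∣ x` iff the value is an involution or `1`
  have hdvd : ∀ x : R, (2 : R) ∣ x ↔ val x * val x = 1 := by
    intro x
    constructor
    · rintro ⟨z, rfl⟩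
      rw [val_two]; exact hexp4 _ (val_mem z)
    · intro hx
      obtain ⟨w, hw, hwx⟩ := hsqsurj (val x) ⟨val_mem x, hx⟩
      obtain ⟨z, rfl⟩ := hMtop w hw
      exact ⟨z, val_inj (by rw [val_two, hwx])⟩
  have h2 : ∀ x : R, 2 * x = 0 → (2 : R) ∣ x := fun x hx => (hdvd x).2 (by
    rw [← val_two, hx, val_zero])
  have hsq_ne : ∀ {w : G}, w ∈ Q → w * w ≠ 1 → w * w ∈ invs G a := fun hw hw1 =>
    (mem_invs_iff h).2 ⟨hsqA _ hw, hw1⟩
  have hrI : r * r ∈ invs G a := hsq_ne hr hr2
  have hqC := card_C h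
  obtain ⟨n, hn, hqn⟩ := exists_qNum_eq h
  let D : Alg.TData R C :=
    { n := n
      hn := hn
      τ := τ
      four := val_inj (by
        rw [show (4 : R) = 2 * (2 * 1) by norm_num, val_two, val_two, val_one, val_zero]
        exact hexp4 r hr)
      not_two_dvd := fun c hc => hr2 (by
        have h1 := (hdvd _).1 hc
        rw [val_τ1] at h1
        have h3 : (c : G) * (r * r) * (c : G)⁻¹ = 1 := by rw [← h1]; group
        simpa using h3)
      exhaust := fun x hx => by
        have hx1 : val x * val x ≠ 1 := fun e => hx ((hdvd x).2 e)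
        obtain ⟨c, ⟨hc, hcx⟩, -⟩ := existsUnique_C h hrI (hsq_ne (val_mem x) hx1)
        refine ⟨⟨c, hc⟩, (hdvd _).2 ?_⟩
        rw [val_sub, val_τ1, sq_mul h (val_mem x) (Q.inv_mem (Q_invariant h c hc r hr))]
        show val x * val x * ((c * r * c⁻¹)⁻¹ * (c * r * c⁻¹)⁻¹) = 1
        rw [show (c * r * c⁻¹)⁻¹ * (c * r * c⁻¹)⁻¹ = (c * (r * r) * c⁻¹)⁻¹ by group, hcx, mul_inv_cancel]
      pow_q := fun c => by
        rw [← hqn, ← hqC, pow_succ, pow_card_eq_one', one_mul]
      inj := fun c d hcd => by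
        have h1 := (hdvd _).1 hcd
        rw [val_sub, val_τ1, val_τ1, sq_mul h (Q_invariant h c c.2 r hr)
          (Q.inv_mem (Q_invariant h d d.2 r hr))] at h1
        have h3 : (c : G) * (r * r) * (c : G)⁻¹ = d * (r * r) * (d : G)⁻¹ := by
          calc (c : G) * (r * r) * (c : G)⁻¹ = c * r * (c : G)⁻¹ * (c * r * (c : G)⁻¹) *
                ((d * r * (d : G)⁻¹)⁻¹ * (d * r * (d : G)⁻¹)⁻¹) * (d * (r * r) * (d : G)⁻¹) := by group
            _ = _ := by rw [h1, one_mul]
        exact Subtype.ext ((existsUnique_C h hrI ((mem_invs_iff h).2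
          ⟨Circle.omega_conj h d.2 ((mem_invs_iff h).1 hrI).1, fun e => hr2 (by simpa using e)⟩)).unique
          ⟨c.2, h3⟩ ⟨d.2, rfl⟩)
      three := fun c => by
        by_contra hall
        push Not at hall
        have : (Finset.univ : Finset C) ⊆ {1, c} := fun d _ => by
          by_cases hd : d = 1
          · simp [hd]
          · simp [hall d hd]
        have h3 := Finset.card_le_card this
        rw [Finset.card_univ, ← Nat.card_eq_fintype_card] at h3
        have := (Finset.card_le_two : ({1, c} : Finset C).card ≤ 2)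
        omega }
  obtain ⟨ρ, ⟨hρ, hρs⟩, -⟩ := existsUnique_C h hrI hs
  let P : R → R → C → Prop := fun x f c =>
    val x ≠ 1 ∧ ∃ g ∈ Q, t * val x * t = g * c * t * val f
  haveI := h.faithful
  have hP_unique : ∀ {x f : R} {c : C} {g d f' : G}, P x f c → g ∈ Q → d ∈ twoStab G a t → f' ∈ Q →
      t * val x * t = g * d * t * f' → d = c ∧ f' = val f := by
    rintro x f c g d f' ⟨-, g', hg', e'⟩ hg hd hf e
    obtain ⟨-, h1, h3⟩ := decompQ_unique h hg hg' hd (C_le h c.2) hf (val_mem f) (e.symm.trans e')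
    exact ⟨h1, h3⟩
  have htC : ∀ c : C, (t * (c : G) * t)⁻¹ = c := fun c => by rw [C_conj h c.2, inv_inv]
  have hne_of : ∀ {x : R}, x ≠ 0 → val x ≠ 1 := fun hx e => hx (val_inj (e.trans val_zero.symm))
  have hR : Alg.Rules D P (⟨ρ, hρ⟩ : C) := by
    constructor
    · intro c
      have hval : val (2 * D.τ (⟨ρ, hρ⟩ * c⁻¹)) = (c : G)⁻¹ * s * c := by
        rw [val_two, val_τ1, ← hρs]
        show ρ * (c : G)⁻¹ * r * (ρ * (c : G)⁻¹)⁻¹ * (ρ * (c : G)⁻¹ * r * (ρ * (c : G)⁻¹)⁻¹) = _
        rw [C_comm h hρ (C.inv_mem c.2)]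
        group
      refine ⟨?_, ?_⟩
      · rw [hval]
        intro e
        exact ((mem_invs_iff h).1 hs).2 (by
          rw [show s = (c : G) * ((c : G)⁻¹ * s * c) * (c : G)⁻¹ by group, e]; group)
      have := conj_eq_decomp h c.2 (show t * s * t = r⁻¹ * 1 * t * r by rw [mul_one]; exact esr)
      rw [mul_one] at this
      refine ⟨_, twoStab_norm hS (C_le h c.2) (Q.inv_mem hr), ?_⟩
      rw [hval, val_τ1]
      exact this
    · rintro c x f d ⟨hx, g, hg, e⟩
      have hval : val (D.τ c⁻¹ * x) = (c : G)⁻¹ * val x * c := by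
        rw [show D.τ c⁻¹ = τ c⁻¹ from rfl, val_τ]; simp
      refine ⟨?_, _, twoStab_norm hS (C_le h c.2) hg, ?_⟩
      · rw [hval]
        intro e'
        exact hx (by rw [show val x = (c : G) * ((c : G)⁻¹ * val x * c) * (c : G)⁻¹ by group, e']; group)
      rw [hval, conj_eq_decomp h c.2 e, show D.τ c = τ c from rfl, val_τ]
      show _ = _ * ((c : G) * c * d) * t * _
      conv_rhs => rw [mul_assoc (c : G) c d, C_comm h c.2 d.2, ← mul_assoc (c : G) d]
    · refine ⟨?_, s, ((mem_invs_iff h).1 hs).1.1, ?_⟩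
      · rw [val_neg, val_one]; simpa using hr1
      rw [val_neg, val_one, OneMemClass.coe_one, mul_one]
      have h1 : t * r⁻¹ * t = (t * r * t)⁻¹ := by rw [mul_inv_rev, mul_inv_rev, t_inv hS]; group
      rw [h1, etr, mul_inv_rev, mul_inv_rev, t_inv hS,
        inv_eq_self_of_sq ((mem_invs_iff h).1 hs).1.2]
      group
    · intro x f c f' c' hP hP'
      obtain ⟨-, g, hg, e⟩ := hP'
      exact (val_inj (hP_unique hP hg (C_le h c'.2) (val_mem f') e).2).symm
    · intro x fx hx y fy hy fy' hy' fz hz Px Py Py' hxy Pz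
      obtain ⟨hx1, gx, hgx, ex⟩ := Px
      obtain ⟨hy1, gy, hgy, ey⟩ := Py
      obtain ⟨-, gy', hgy', ey'⟩ := Py'
      obtain ⟨-, gz, hgz, ez⟩ := Pz
      have hxy1 : val x * val y ≠ 1 := by rw [← val_add]; exact hne_of hxy
      have hinv := (Cfsg.Agent.S1165.result hS (val y) gy hy (val fy) (val_mem y) hy1 hgy
        (C_le h hy.2) (val_mem fy) ey).1 gy' hy' (val fy') hgy' (C_le h hy'.2) (val_mem fy')
        (by rw [← val_neg]; exact ey')
      have hzv : val (fx - fy') = val fx * gy := by rw [val_sub, hinv.1, inv_inv]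
      obtain ⟨g', hg', d', hd', f', hf', e'⟩ := exists_decompQ h (Q.mul_mem (val_mem x) (val_mem y)) hxy1
      have key := (Cfsg.Agent.S1166.result hS (val x) (val y) gx hx (val fx) gy hy (val fy) (val_mem x) hx1
        (val_mem y) hy1 hxy1 hgx (C_le h hx.2) (val_mem fx) ex hgy (C_le h hy.2) (val_mem fy) ey).2
        gz hz (val fz) g' d' f' hgz (C_le h hz.2) (val_mem fz) (by rw [← hzv]; exact ez) hg' hd' hf' e'
      refine ⟨hne_of hxy, g', hg', ?_⟩
      rw [val_add x y, e', key.2, val_add, show D.τ hy = τ hy from rfl, val_τ, key.1, htC, C_conj h hy.2]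
      rfl
    · intro x fx hx y fy hy fy' hy' f' h' Px Py Py' hxy Pxy
      obtain ⟨hx1, gx, hgx, ex⟩ := Px
      obtain ⟨hy1, gy, hgy, ey⟩ := Py
      obtain ⟨-, gy', hgy', ey'⟩ := Py'
      obtain ⟨-, g', hg', e'⟩ := Pxy
      rw [val_add] at e'
      have hxy1 : val x * val y ≠ 1 := by rw [← val_add]; exact hne_of hxy
      have hinv := (Cfsg.Agent.S1165.result hS (val y) gy hy (val fy) (val_mem y) hy1 hgy
        (C_le h hy.2) (val_mem fy) ey).1 gy' hy' (val fy') hgy' (C_le h hy'.2) (val_mem fy')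
        (by rw [← val_neg]; exact ey')
      have hzv : val (fx - fy') = val fx * gy := by rw [val_sub, hinv.1, inv_inv]
      have h66 := Cfsg.Agent.S1166.result hS (val x) (val y) gx hx (val fx) gy hy (val fy) (val_mem x) hx1
        (val_mem y) hy1 hxy1 hgx (C_le h hx.2) (val_mem fx) ex hgy (C_le h hy.2) (val_mem fy) ey
      obtain ⟨gz, hgz, dz, hdz, fz, hfz, ez⟩ := exists_decompQ h (Q.mul_mem (val_mem fx) hgy) h66.1
      have key := h66.2 gz dz fz g' h' (val f') hgz hdz hfz ez hg' (C_le h h'.2) (val_mem f') e'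
      refine ⟨by rw [hzv]; exact h66.1, gz, hgz, ?_⟩
      rw [hzv, ez, show D.τ hy⁻¹ = τ hy⁻¹ from rfl, val_τ, val_sub, key.1, htC, C_conj h hy.2]
      have hdz' : dz = (hx : G)⁻¹ * h' * (hy : G)⁻¹ := by rw [key.2]; group
      rw [hdz']
      show _ = _ * ((hx : G)⁻¹ * h' * (hy : G)⁻¹) * t * ((hy : G)⁻¹ * _ * ((hy : G)⁻¹)⁻¹)
      group
  exact Alg.false_of_rules hR h2

end Cfsg.Agent.Lib.BenderSuzuki.Abelian.Four
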