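import Cfsg.Agent.Lib.BenderSuzuki.Abelian.Setup
import Cfsg.Agent.Lib.Suzuki2.FieldModel

/-!
# The two-point stabiliser acts semilinearly on the involutions

`|D| = (q - 1) w` with `w ≤ n` for `q = 2 ^ n`, and a non-trivial element of `D` fixes at most
`2 ^ (n / 3)` involutions.
-/

set_option autoImplicit false
set_option linter.unusedSectionVars false
set_option linter.style.haveILetI false
set_option linter.unusedSimpArgs false

namespace Cfsg.Agent.Lib.BenderSuzuki.Abelian.Galois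

open MulAction Cfsg.Agent.Lib.RankOne.Basic Cfsg.Agent.Lib.RankOne.Involution
open Cfsg.Agent.Lib.BenderSuzuki Cfsg.Agent.Lib.BenderSuzuki.Abelian.Setup

universe u v

variable {G : Type u} {Ω : Type v} [Group G] [Finite G] [MulAction G Ω] {a : Ω} {t : G}
  {Q C : Subgroup G} (h : Ctx G Ω a t Q C)

/-- Elements of `M` commuting with `d`. -/
def fixIn (M : Subgroup G) (d : G) : Subgroup G := M ⊓ Subgroup.centralizer {d}

theorem mem_fixIn {M : Subgroup G} {d x : G} : x ∈ fixIn M d ↔ x ∈ M ∧ d * x * d⁻¹ = x := by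
  rw [fixIn, Subgroup.mem_inf, Subgroup.mem_centralizer_singleton_iff]
  exact and_congr_right fun _ => ⟨fun e => mul_inv_eq_iff_eq_mul.2 e.symm,
    fun e => (mul_inv_eq_iff_eq_mul.1 e).symm⟩

include h

theorem inv1_conj {d y : G} (hd : d ∈ twoStab G a t) (hy : y ∈ inv1 h) : d * y * d⁻¹ ∈ inv1 h :=
  ⟨twoStab_norm h.setup hd hy.1, by
    rw [show d * y * d⁻¹ * (d * y * d⁻¹) = d * (y * y) * d⁻¹ by group, hy.2, mul_one, mul_inv_cancel]⟩

theorem sq_comm {x y : G} (hx : x ∈ Q) (hy : y ∈ Q) : x * y * (x * y) = x * x * (y * y) := by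
  calc x * y * (x * y) = x * (y * x) * y := by group
    _ = x * (x * y) * y := by rw [h.comm y hy x hx]
    _ = _ := by group

/-- An element of `D` centralising the involutions is trivial. -/
theorem eq_one_of_centralizes {d : G} (hd : d ∈ twoStab G a t)
    (hfix : ∀ y ∈ inv1 h, d * y * d⁻¹ = y) : d = 1 := by
  have hS := h.setup
  haveI := h.faithful
  have key : ∀ (k : ℕ) (x : G), x ∈ Q → x ^ 2 ^ k = 1 → d * x * d⁻¹ = x := by
    intro k
    induction k with
    | zero => intro x _ hx; rw [pow_zero, pow_one] at hx; rw [hx]; group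
    | succ k ih =>
      intro x hx hk
      have hxx := ih (x * x) (Q.mul_mem hx hx) (by rw [← sq, ← pow_mul, ← pow_succ']; exact hk)
      set y := d * x * d⁻¹ * x⁻¹ with hy
      have hyA : y ∈ inv1 h := by
        refine ⟨Q.mul_mem (twoStab_norm hS hd hx) (Q.inv_mem hx), ?_⟩
        rw [hy, sq_comm h (twoStab_norm hS hd hx) (Q.inv_mem hx),
          show d * x * d⁻¹ * (d * x * d⁻¹) = d * (x * x) * d⁻¹ by group, hxx]
        group
      have hyd := hfix y hyA
      have hdx : d * x * d⁻¹ = y * x := by rw [hy]; group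
      have hit : ∀ i : ℕ, d ^ i * x * (d ^ i)⁻¹ = y ^ i * x := by
        intro i
        induction i with
        | zero => simp
        | succ i ihi =>
          calc d ^ (i + 1) * x * (d ^ (i + 1))⁻¹ = d * (d ^ i * x * (d ^ i)⁻¹) * d⁻¹ := by
                rw [pow_succ']; group
            _ = (d * y * d⁻¹) ^ i * (d * x * d⁻¹) := by rw [ihi, conj_pow]; group
            _ = _ := by rw [hyd, hdx, pow_succ]; group
      have h1 := hit (Nat.card (twoStab G a t))
      rw [show d ^ Nat.card (twoStab G a t) = 1 from pow_card_eq_one_mem hd] at h1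
      simp only [inv_one, one_mul, mul_one] at h1
      have hy1 : y = 1 := by
        have h2 : y ^ Nat.card (twoStab G a t) = 1 := mul_eq_right.1 h1.symm
        obtain ⟨j, hj⟩ := hS.odd_card
        rw [hj, pow_succ, pow_mul, sq, hyA.2, one_pow, one_mul] at h2
        exact h2
      rw [hdx, hy1, one_mul]
  refine eq_of_smul_eq_smul (α := Ω) fun c => ?_
  rw [one_smul]
  by_cases hc : c = a
  · rw [hc, hd.1]
  obtain ⟨x, hx, rfl⟩ := Q_trans hS (t_smul_ne hS) hc
  obtain ⟨k, hk⟩ := h.twoGroup ⟨x, hx⟩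
  have := key k x hx (congrArg Subtype.val hk)
  rw [← mul_smul, mul_inv_eq_iff_eq_mul.1 this, mul_smul, (mem_twoStab.1 hd).2]

/-- `C_D(s)`. -/
abbrev wGrp (_ : Ctx G Ω a t Q C) (s : G) : Subgroup G := twoStab G a t ⊓ Subgroup.centralizer {s}

theorem mem_wGrp {s d : G} : d ∈ wGrp h s ↔ d ∈ twoStab G a t ∧ d * s * d⁻¹ = s := by
  rw [Subgroup.mem_inf, Subgroup.mem_centralizer_singleton_iff]
  exact and_congr_right fun _ => ⟨fun e => mul_inv_eq_iff_eq_mul.2 e, mul_inv_eq_iff_eq_mul.1⟩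

theorem card_D {s : G} (hs : s ∈ invs G a) :
    Nat.card (twoStab G a t) = Nat.card C * Nat.card (wGrp h s) := by
  rw [← Nat.card_prod]
  symm
  refine Nat.card_congr (Equiv.ofBijective
    (fun p => ⟨(p.1 : G) * p.2, (twoStab G a t).mul_mem (C_le h p.1.2) p.2.2.1⟩) ⟨?_, ?_⟩)
  · rintro ⟨c, w⟩ ⟨c', w'⟩ e
    have e' : (c : G) * w = c' * w' := congrArg Subtype.val e
    have hw := ((mem_wGrp h).1 w.2).2
    have hw' := ((mem_wGrp h).1 w'.2).2
    have h1 : (c : G) * s * (c : G)⁻¹ = c' * s * (c' : G)⁻¹ := by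
      calc (c : G) * s * (c : G)⁻¹ = c * ((w : G) * s * (w : G)⁻¹) * (c : G)⁻¹ := by rw [hw]
        _ = (c * w) * s * (c * w : G)⁻¹ := by group
        _ = c' * ((w' : G) * s * (w' : G)⁻¹) * (c' : G)⁻¹ := by rw [e']; group
        _ = _ := by rw [hw']
    obtain ⟨k, -, huniq⟩ := existsUnique_C h hs
      ((mem_invs_iff h).2 ⟨inv1_conj h (C_le h c'.2) ((mem_invs_iff h).1 hs).1,
        fun e'' => ((mem_invs_iff h).1 hs).2 (by simpa using e'')⟩)
    have hcc : (c : G) = c' := (huniq _ ⟨c.2, h1⟩).trans (huniq _ ⟨c'.2, rfl⟩).symm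
    rw [hcc] at e'
    exact Prod.ext (Subtype.ext hcc) (Subtype.ext (mul_left_cancel e'))
  · rintro ⟨d, hd⟩
    obtain ⟨c, ⟨hc, hcs⟩, -⟩ := existsUnique_C h hs
      ((mem_invs_iff h).2 ⟨inv1_conj h hd ((mem_invs_iff h).1 hs).1,
        fun e'' => ((mem_invs_iff h).1 hs).2 (by simpa using e'')⟩)
    refine ⟨(⟨c, hc⟩, ⟨c⁻¹ * d, (mem_wGrp h).2
      ⟨(twoStab G a t).mul_mem ((twoStab G a t).inv_mem (C_le h hc)) hd, ?_⟩⟩), Subtype.ext (by simp)⟩
    rw [show c⁻¹ * d * s * (c⁻¹ * d)⁻¹ = c⁻¹ * (d * s * d⁻¹) * c by group, ← hcs]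
    group

/-- The field: the order of `C_D(s)` and the fixed involutions of its elements. -/
theorem galois_bounds {s : G} (hs : s ∈ invs G a) {n : ℕ} (hn : 2 ≤ n) (hq : qNum G a = 2 ^ n) :
    Nat.card (wGrp h s) ≤ n ∧
      ∀ w ∈ wGrp h s, w ≠ 1 → Nat.card (fixIn (inv1 h) w) ^ 3 ≤ qNum G a := by
  classical
  haveI : Fact (Nat.Prime 2) := ⟨Nat.prime_two⟩
  set A := inv1 h with hA
  let κ : twoStab G a t →* MulAut A :=
    { toFun := fun d =>
        { toFun := fun y => ⟨(d : G) * y * (d : G)⁻¹, inv1_conj h d.2 y.2⟩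
          invFun := fun y => ⟨(d : G)⁻¹ * y * ((d : G)⁻¹)⁻¹,
            inv1_conj h ((twoStab G a t).inv_mem d.2) y.2⟩
          left_inv := fun y => Subtype.ext (by simp [mul_assoc])
          right_inv := fun y => Subtype.ext (by simp [mul_assoc])
          map_mul' := fun y y' => Subtype.ext (by simp [mul_assoc]) }
      map_one' := MulEquiv.ext fun y => Subtype.ext
        (show (1 : G) * (y : G) * (1 : G)⁻¹ = y by simp)
      map_mul' := fun d d' => MulEquiv.ext fun y => Subtype.ext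
        (show (d : G) * d' * (y : G) * ((d : G) * d')⁻¹ = d * (d' * y * (d' : G)⁻¹) * (d : G)⁻¹ by group) }
  let iC : C →* twoStab G a t := Subgroup.inclusion fun c hc => C_le h hc
  let L : Subgroup (MulAut A) := (κ.comp iC).range
  have hsA := (mem_invs_iff h).1 hs
  set a₀ : A := ⟨s, hsA.1⟩ with ha₀
  have ha₀1 : a₀ ≠ 1 := fun e => hsA.2 (congrArg Subtype.val e)
  have hcard : Nat.card A = 2 ^ n := by rw [hA, card_inv1 h, hq]
  have hexp : ∀ y : A, y * y = 1 := fun y => Subtype.ext y.2.2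
  have hcomm : ∀ k ∈ L, ∀ l ∈ L, k * l = l * k := by
    rintro _ ⟨c, rfl⟩ _ ⟨c', rfl⟩
    rw [← map_mul, ← map_mul]
    exact congrArg _ (Subtype.ext (C_comm h c.2 c'.2))
  have htrans : ∀ x y : A, x ≠ 1 → y ≠ 1 → ∃ k ∈ L, k x = y := by
    intro x y hx hy
    obtain ⟨c, ⟨hc, e⟩, -⟩ := existsUnique_C h
      ((mem_invs_iff h).2 ⟨x.2, fun e => hx (Subtype.ext e)⟩)
      ((mem_invs_iff h).2 ⟨y.2, fun e => hy (Subtype.ext e)⟩)
    exact ⟨_, ⟨⟨c, hc⟩, rfl⟩, Subtype.ext e⟩
  obtain ⟨ι, hι, hadd, hι1, hιa₀, hιk⟩ :=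
    Suzuki2.FieldModel.field_model (A := A) (by omega) hcard hexp L hcomm htrans ha₀1
  let e : A ≃ GaloisField 2 n := Equiv.ofBijective ι hι
  have heι : ∀ z, e z = ι z := fun _ => rfl
  let ρ : wGrp h s →* MulAut A := κ.comp (Subgroup.inclusion inf_le_left)
  have h₀ : ∀ w, ρ w a₀ = a₀ := fun w => Subtype.ext ((mem_wGrp h).1 w.2).2
  have hnorm : ∀ w, ∀ l ∈ L, ρ w * l * (ρ w)⁻¹ ∈ L := by
    rintro w _ ⟨c, rfl⟩
    refine ⟨⟨(w : G) * c * (w : G)⁻¹, h.cNorm _ w.2.1 c c.2⟩, ?_⟩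
    show κ (iC _) = κ _ * κ (iC c) * (κ _)⁻¹
    rw [← map_inv, ← map_mul, ← map_mul]
    rfl
  have hmul : ∀ (w : wGrp h s) (x y : GaloisField 2 n),
      e (ρ w (e.symm (x * y))) = e (ρ w (e.symm x)) * e (ρ w (e.symm y)) := by
    intro w x y
    by_cases hx : e.symm x = 1
    · have : x = 0 := by rw [← e.apply_symm_apply x, hx, heι, hι1]
      subst this
      rw [zero_mul, hx, map_one, heι, hι1, zero_mul]
    obtain ⟨k, hk, hkx⟩ := htrans a₀ _ ha₀1 hx
    have h1 : e.symm (x * y) = k (e.symm y) := e.injective (by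
      rw [e.apply_symm_apply, heι, hιk k hk, hkx, ← heι, ← heι, e.apply_symm_apply, e.apply_symm_apply])
    have h2 : ∀ z, ρ w (k z) = (ρ w * k * (ρ w)⁻¹) (ρ w z) := fun z => by
      rw [MulAut.mul_apply, MulAut.mul_apply, MulAut.inv_apply_self]
    rw [h1, h2, heι, hιk _ (hnorm w k hk), ← hkx, h2 a₀, h₀]
    rfl
  let R : wGrp h s → (GaloisField 2 n ≃+* GaloisField 2 n) := fun w =>
    { toFun := fun x => e (ρ w (e.symm x))
      invFun := fun x => e ((ρ w).symm (e.symm x))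
      left_inv := fun x => by simp
      right_inv := fun x => by simp
      map_mul' := hmul w
      map_add' := fun x y => by
        have : e.symm (x + y) = e.symm x * e.symm y := e.injective (by
          rw [e.apply_symm_apply, heι, hadd, ← heι, ← heι, e.apply_symm_apply, e.apply_symm_apply])
        rw [this, map_mul, heι, hadd]
        rfl }
  have hR : ∀ w x, R w x = e (ρ w (e.symm x)) := fun _ _ => rfl
  let Φ : wGrp h s →* (GaloisField 2 n ≃ₐ[ZMod 2] GaloisField 2 n) :=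
    { toFun := fun w => AlgEquiv.ofRingEquiv (f := R w)
        (fun x => DFunLike.congr_fun (Subsingleton.elim ((R w).toRingHom.comp (algebraMap (ZMod 2) (GaloisField 2 n)))
          (algebraMap (ZMod 2) (GaloisField 2 n))) x)
      map_one' := AlgEquiv.ext fun x => by
        show R 1 x = x
        rw [hR, map_one, MulAut.one_apply, e.apply_symm_apply]
      map_mul' := fun w w' => AlgEquiv.ext fun x => by
        show R (w * w') x = R w (R w' x)
        rw [hR, hR, hR, e.symm_apply_apply, map_mul, MulAut.mul_apply] }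
  have hΦ : Function.Injective Φ := by
    rw [injective_iff_map_eq_one]
    intro w hw
    refine Subtype.ext (eq_one_of_centralizes h w.2.1 fun y hy => ?_)
    have h1 : R w (e ⟨y, hy⟩) = e ⟨y, hy⟩ := AlgEquiv.congr_fun hw _
    rw [hR, e.symm_apply_apply] at h1
    exact congrArg Subtype.val (e.injective h1)
  haveI : Finite (GaloisField 2 n) := inferInstance
  constructor
  · calc Nat.card (wGrp h s) ≤ Nat.card (GaloisField 2 n ≃ₐ[ZMod 2] GaloisField 2 n) :=
          Nat.card_le_card_of_injective Φ hΦ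
      _ = n := by rw [IsGalois.card_aut_eq_finrank, GaloisField.finrank 2 (by omega)]
  intro w hw hw1
  set σ := Φ ⟨w, hw⟩ with hσ
  have hσ1 : σ ≠ 1 := fun e' => hw1 (congrArg Subtype.val (hΦ (e'.trans (map_one Φ).symm)))
  have hodd : Odd (orderOf σ) := by
    refine Odd.of_dvd_nat h.setup.odd_card ((orderOf_map_dvd Φ ⟨w, hw⟩).trans ?_)
    rw [← Subgroup.orderOf_coe]
    exact orderOf_dvd_of_pow_eq_one (pow_card_eq_one_mem hw.1)
  set E := IntermediateField.fixedField (Subgroup.zpowers σ) with hE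
  have hfix : Nat.card (fixIn (inv1 h) w) ≤ Nat.card E := by
    refine Nat.card_le_card_of_injective
      (fun y => (⟨e ⟨(y : G), (mem_fixIn.1 y.2).1⟩, ?_⟩ : E)) ?_
    · rw [hE, IntermediateField.mem_fixedField_iff]
      intro f hf
      have hst : σ • e ⟨(y : G), (mem_fixIn.1 y.2).1⟩ = e ⟨(y : G), (mem_fixIn.1 y.2).1⟩ := by
        show R ⟨w, hw⟩ _ = _
        rw [hR, e.symm_apply_apply]
        exact congrArg e (Subtype.ext (mem_fixIn.1 y.2).2)
      obtain ⟨i, rfl⟩ := Subgroup.mem_zpowers_iff.1 hf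
      exact MulAction.mem_stabilizer_iff.1
        ((MulAction.stabilizer (GaloisField 2 n ≃ₐ[ZMod 2] GaloisField 2 n) _).zpow_mem hst i)
    · intro y y' e'
      exact Subtype.ext (congrArg Subtype.val (e.injective (congrArg Subtype.val e') :
        (⟨(y : G), (mem_fixIn.1 y.2).1⟩ : A) = ⟨(y' : G), (mem_fixIn.1 y'.2).1⟩) :)
  have hfr : Module.finrank E (GaloisField 2 n) = orderOf σ := by
    rw [hE, IntermediateField.finrank_fixedField_eq_card, Nat.card_zpowers]
  have hcE : 2 ^ n = Nat.card E ^ orderOf σ := by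
    rw [← hfr, ← Module.natCard_eq_pow_finrank, GaloisField.card 2 n (by omega)]
  have h3 : 3 ≤ orderOf σ := by
    obtain ⟨j, hj⟩ := hodd
    have : orderOf σ ≠ 1 := fun e' => hσ1 (orderOf_eq_one_iff.1 e')
    omega
  calc Nat.card (fixIn (inv1 h) w) ^ 3 ≤ Nat.card E ^ 3 := Nat.pow_le_pow_left hfix 3
    _ ≤ Nat.card E ^ orderOf σ := Nat.pow_le_pow_right Nat.card_pos h3
    _ = qNum G a := by rw [← hcE, hq]

/-- A non-trivial element of `D` fixes few involutions. -/
theorem card_fix_cube {s : G} (hs : s ∈ invs G a) {n : ℕ} (hn : 2 ≤ n) (hq : qNum G a = 2 ^ n)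
    {d : G} (hd : d ∈ twoStab G a t) (hd1 : d ≠ 1) :
    Nat.card (fixIn (inv1 h) d) ^ 3 ≤ qNum G a := by
  by_cases hbot : fixIn (inv1 h) d = ⊥
  · rw [hbot, Subgroup.card_bot, one_pow]
    have := four_le_qNum h
    omega
  obtain ⟨y, hy, hy1⟩ := (Subgroup.bot_or_exists_ne_one _).resolve_left hbot
  obtain ⟨hyA, hyd⟩ := mem_fixIn.1 hy
  obtain ⟨c, ⟨hc, rfl⟩, -⟩ := existsUnique_C h hs ((mem_invs_iff h).2 ⟨hyA, hy1⟩)
  have hcD := C_le h hc
  set w := c⁻¹ * d * c with hw
  have hwW : w ∈ wGrp h s := (mem_wGrp h).2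
    ⟨(twoStab G a t).mul_mem ((twoStab G a t).mul_mem ((twoStab G a t).inv_mem hcD) hd) hcD, by
      calc w * s * w⁻¹ = c⁻¹ * (d * (c * s * c⁻¹) * d⁻¹) * c := by rw [hw]; group
        _ = s := by rw [hyd]; group⟩
  have hw1 : w ≠ 1 := fun e => hd1 (by
    rw [show d = c * w * c⁻¹ by rw [hw]; group, e]; group)
  refine le_trans (Nat.pow_le_pow_left ?_ 3) ((galois_bounds h hs hn hq).2 w hwW hw1)
  refine Nat.card_le_card_of_injective
    (fun z : fixIn (inv1 h) d => (⟨c⁻¹ * z * c, mem_fixIn.2 ⟨?_, ?_⟩⟩ : fixIn (inv1 h) w)) ?_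
  · have := inv1_conj h ((twoStab G a t).inv_mem hcD) (mem_fixIn.1 z.2).1
    rwa [inv_inv] at this
  · calc w * (c⁻¹ * z * c) * w⁻¹ = c⁻¹ * (d * z * d⁻¹) * c := by rw [hw]; group
      _ = _ := by rw [(mem_fixIn.1 z.2).2]
  · intro z z' e
    exact Subtype.ext (mul_right_cancel (mul_left_cancel (by simpa [mul_assoc] using congrArg Subtype.val e :
      c⁻¹ * ((z : G) * c) = c⁻¹ * ((z' : G) * c))))

end Cfsg.Agent.Lib.BenderSuzuki.Abelian.Galois
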