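import Cfsg.Agent.Lib.BenderSuzuki.Interface
import Cfsg.Agent.Lib.RankOne.Nilpotent
import Cfsg.Agent.S1128
import Cfsg.Agent.S1131

/-!
# An abelian 2-group as the kernel of a rank-one set-up: elementary facts

`Ctx` bundles the hypotheses together with the cyclic group `C` of inverted elements.
-/

set_option autoImplicit false
set_option linter.unusedSectionVars false
set_option linter.style.haveILetI false
set_option linter.unusedSimpArgs false

namespace Cfsg.Agent.Lib.BenderSuzuki.Abelian.Setup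

open MulAction Cfsg.Agent.Lib.RankOne.Basic Cfsg.Agent.Lib.RankOne.Involution
open Cfsg.Agent.Lib.RankOne.Nilpotent Cfsg.Agent.Lib.BenderSuzuki

universe u v

variable {G : Type u} {Ω : Type v} [Group G] [Finite G] [MulAction G Ω] {a : Ω} {t : G}
  {Q : Subgroup G}

/-- The hypotheses of the section, with the group `C` of inverted elements. -/
structure Ctx (G : Type u) (Ω : Type v) [Group G] [MulAction G Ω] (a : Ω) (t : G)
    (Q C : Subgroup G) : Prop extends Hyp G Ω a t Q where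
  twoGroup : IsPGroup 2 Q
  comm : ∀ x ∈ Q, ∀ y ∈ Q, x * y = y * x
  cSet : (C : Set G) = kSet a t
  cyclic : IsCyclic C
  cNorm : ∀ d ∈ twoStab G a t, ∀ c ∈ C, d * c * d⁻¹ ∈ C

/-- Existence of the context. -/
theorem exists_ctx (h : Hyp G Ω a t Q) (hp : IsPGroup 2 Q) (hc : IsMulCommutative Q) :
    ∃ C, Ctx G Ω a t Q C := by
  haveI := h.faithful
  obtain ⟨C, h1, h2, h3⟩ := Cfsg.Agent.S1131.result h.setup h.twoRank
  refine ⟨C, h, hp, fun x hx y hy => ?_, h1, h2, h3⟩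
  haveI := hc
  exact congrArg Subtype.val (mul_comm' (⟨x, hx⟩ : Q) ⟨y, hy⟩)

variable {C : Subgroup G} (h : Ctx G Ω a t Q C)

/-- The involutions of `Q`, with the identity. -/
def inv1 : Subgroup G where
  carrier := {x | x ∈ Q ∧ x * x = 1}
  one_mem' := ⟨Q.one_mem, one_mul 1⟩
  inv_mem' := by
    rintro x ⟨hx, hx2⟩
    exact ⟨Q.inv_mem hx, by rw [← mul_inv_rev, hx2, inv_one]⟩
  mul_mem' := by
    rintro x y ⟨hx, hx2⟩ ⟨hy, hy2⟩
    refine ⟨Q.mul_mem hx hy, ?_⟩
    calc x * y * (x * y) = x * (y * x) * y := by group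
      _ = x * (x * y) * y := by rw [h.comm y hy x hx]
      _ = x * x * (y * y) := by group
      _ = 1 := by rw [hx2, hy2, one_mul]

theorem mem_inv1 {x : G} : x ∈ inv1 h ↔ x ∈ Q ∧ x * x = 1 := Iff.rfl

theorem inv1_le : inv1 h ≤ Q := fun _ hx => hx.1

theorem mem_invs_iff {x : G} : x ∈ invs G a ↔ x ∈ inv1 h ∧ x ≠ 1 :=
  ⟨fun hx => ⟨⟨involutions_stab_mem_Q h.setup hx.1 hx.2.2, hx.2.2⟩, hx.2.1⟩,
    fun hx => ⟨h.setup.le hx.1.1, hx.2, hx.1.2⟩⟩

theorem card_inv1 : Nat.card (inv1 h) = qNum G a := by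
  classical
  rw [qNum, ← Nat.card_congr (Equiv.optionSubtypeNe (1 : inv1 h)), Finite.card_option]
  congr 1
  exact Nat.card_congr
    { toFun := fun x => ⟨(x.1 : G), (mem_invs_iff h).2 ⟨x.1.2, fun e => x.2 (Subtype.ext e)⟩⟩
      invFun := fun x => ⟨⟨x.1, ((mem_invs_iff h).1 x.2).1⟩,
        fun e => ((mem_invs_iff h).1 x.2).2 (congrArg Subtype.val e)⟩
      left_inv := fun _ => rfl
      right_inv := fun _ => rfl }

include h

theorem mem_C_iff {c : G} : c ∈ C ↔ c ∈ kSet a t := by rw [← h.cSet]; rfl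

theorem C_le {c : G} (hc : c ∈ C) : c ∈ twoStab G a t := ((mem_C_iff h).1 hc).1

theorem C_conj {c : G} (hc : c ∈ C) : t * c * t = c⁻¹ :=
  ((mem_invertedBy_iff h.setup).1 ((mem_C_iff h).1 hc)).2

theorem C_comm {c d : G} (hc : c ∈ C) (hd : d ∈ C) : c * d = d * c := by
  haveI := h.cyclic
  letI := IsCyclic.commGroup (α := C)
  exact congrArg Subtype.val (mul_comm (⟨c, hc⟩ : C) ⟨d, hd⟩)

theorem card_C : Nat.card C + 1 = qNum G a := by
  rw [qNum, ← card_invertedBy h.setup]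
  congr 1
  exact Nat.card_congr (Equiv.setCongr h.cSet)

theorem existsUnique_C {s s' : G} (hs : s ∈ invs G a) (hs' : s' ∈ invs G a) :
    ∃! c, c ∈ C ∧ c * s * c⁻¹ = s' := by
  simpa only [mem_C_iff h] using existsUnique_K h.setup hs hs'

theorem fpf {c x : G} (hc : c ∈ C) (hx : x ∈ Q) (hcx : c * x * c⁻¹ = x) : c = 1 ∨ x = 1 := by
  haveI := h.faithful
  refine or_iff_not_imp_left.2 fun hc1 => ?_
  have := (Subgroup.eq_bot_iff_forall _).1
    (Cfsg.Agent.S1128.result h.setup h.twoRank c ((mem_C_iff h).1 hc) hc1) x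
  refine this ⟨hx, Subgroup.mem_centralizer_singleton_iff.2 ?_⟩
  exact (mul_inv_eq_iff_eq_mul.1 hcx).symm

theorem three_le_qNum : 3 ≤ qNum G a := by
  obtain ⟨s, s', hs, hs', hne⟩ := exists_two_involutions h.setup h.twoRank
  have : 1 < Nat.card (invs G a) := by
    refine Finite.one_lt_card_iff_nontrivial.2 ⟨⟨s, hs⟩, ⟨s', hs'⟩, fun e => hne (congrArg Subtype.val e)⟩
  show 3 ≤ Nat.card (invs G a) + 1
  omega

theorem exists_qNum_eq : ∃ n, 2 ≤ n ∧ qNum G a = 2 ^ n := by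
  haveI : Fact (Nat.Prime 2) := ⟨Nat.prime_two⟩
  obtain ⟨n, hn⟩ := IsPGroup.iff_card.1 (h.twoGroup.to_le (inv1_le h))
  rw [card_inv1 h] at hn
  refine ⟨n, ?_, hn⟩
  have := three_le_qNum h
  by_contra hlt
  interval_cases n <;> simp at hn <;> omega

theorem four_le_qNum : 4 ≤ qNum G a := by
  obtain ⟨n, hn, hq⟩ := exists_qNum_eq h
  rw [hq]
  calc 4 = 2 ^ 2 := by norm_num
    _ ≤ _ := Nat.pow_le_pow_right (by norm_num) hn

/-- A non-trivial `C`-invariant subgroup of `Q` contains all involutions; the kernel of squaring on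
it has order `q`. -/
theorem inv1_le_of_invariant {M : Subgroup G} (hM : M ≤ Q) (hM1 : M ≠ ⊥)
    (hinv : ∀ c ∈ C, ∀ x ∈ M, c * x * c⁻¹ ∈ M) : inv1 h ≤ M := by
  haveI : Fact (Nat.Prime 2) := ⟨Nat.prime_two⟩
  have hp : IsPGroup 2 M := h.twoGroup.to_le hM
  haveI : Nontrivial M := (Subgroup.nontrivial_iff_ne_bot M).2 hM1
  obtain ⟨i, hi0, hi⟩ := hp.nontrivial_iff_card.1 inferInstance
  obtain ⟨z, hz⟩ := exists_prime_orderOf_dvd_card' (G := M) 2 (hi ▸ dvd_pow_self 2 hi0.ne')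
  have hzI : (z : G) ∈ invs G a := by
    refine ⟨h.setup.le (hM z.2), fun e => ?_, ?_⟩
    · rw [← Subgroup.orderOf_coe, e, orderOf_one] at hz; norm_num at hz
    · rw [← sq, ← hz, ← Subgroup.orderOf_coe, pow_orderOf_eq_one]
  intro x hx
  by_cases hx1 : x = 1
  · rw [hx1]; exact M.one_mem
  obtain ⟨c, ⟨hc, rfl⟩, -⟩ := existsUnique_C h hzI ((mem_invs_iff h).2 ⟨hx, hx1⟩)
  exact hinv c hc z z.2

/-- The squares of a subgroup of `Q`. -/
def sqImage {M : Subgroup G} (hM : M ≤ Q) : Subgroup G where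
  carrier := {y | ∃ x ∈ M, x * x = y}
  one_mem' := ⟨1, M.one_mem, one_mul 1⟩
  inv_mem' := by
    rintro _ ⟨x, hx, rfl⟩
    exact ⟨x⁻¹, M.inv_mem hx, (mul_inv_rev x x).symm⟩
  mul_mem' := by
    rintro _ _ ⟨x, hx, rfl⟩ ⟨y, hy, rfl⟩
    refine ⟨x * y, M.mul_mem hx hy, ?_⟩
    calc x * y * (x * y) = x * (y * x) * y := by group
      _ = x * (x * y) * y := by rw [h.comm y (hM hy) x (hM hx)]
      _ = _ := by group

theorem sqImage_le {M : Subgroup G} (hM : M ≤ Q) : sqImage h hM ≤ M := by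
  rintro _ ⟨x, hx, rfl⟩
  exact M.mul_mem hx hx

theorem sqImage_invariant {M : Subgroup G} (hM : M ≤ Q)
    (hinv : ∀ c ∈ C, ∀ x ∈ M, c * x * c⁻¹ ∈ M) :
    ∀ c ∈ C, ∀ x ∈ sqImage h hM, c * x * c⁻¹ ∈ sqImage h hM := by
  rintro c hc _ ⟨x, hx, rfl⟩
  exact ⟨_, hinv c hc x hx, by group⟩

theorem card_eq_mul_sqImage {M : Subgroup G} (hM : M ≤ Q) (hM1 : M ≠ ⊥)
    (hinv : ∀ c ∈ C, ∀ x ∈ M, c * x * c⁻¹ ∈ M) :
    Nat.card M = Nat.card (sqImage h hM) * qNum G a := by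
  let φ : M →* ↥(sqImage h hM) :=
    { toFun := fun x => ⟨(x : G) * x, x, x.2, rfl⟩
      map_one' := Subtype.ext (mul_one 1)
      map_mul' := fun x y => Subtype.ext (by
        show (x : G) * y * (x * y) = x * x * (y * y)
        calc (x : G) * y * (x * y) = x * ((y : G) * x) * y := by group
          _ = x * ((x : G) * y) * y := by rw [h.comm y (hM y.2) x (hM x.2)]
          _ = _ := by group) }
  have hsurj : Function.Surjective φ := by
    rintro ⟨_, x, hx, rfl⟩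
    exact ⟨⟨x, hx⟩, rfl⟩
  rw [← Subgroup.card_mul_index φ.ker, Subgroup.index_ker, MonoidHom.range_eq_top.2 hsurj,
    Subgroup.card_top, mul_comm, ← card_inv1 h]
  congr 1
  refine Nat.card_congr
    { toFun := fun x => ⟨(x.1 : G), hM x.1.2, congrArg Subtype.val x.2⟩
      invFun := fun x => ⟨⟨x.1, inv1_le_of_invariant h hM hM1 hinv x.2⟩, Subtype.ext x.2.2⟩
      left_inv := fun _ => rfl
      right_inv := fun _ => rfl }

theorem card_invariant : ∀ {M : Subgroup G} (_ : M ≤ Q)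
    (_ : ∀ c ∈ C, ∀ x ∈ M, c * x * c⁻¹ ∈ M), ∃ e, Nat.card M = qNum G a ^ e := by
  intro M
  induction hN : Nat.card M using Nat.strong_induction_on generalizing M with
  | _ N ih =>
    intro hM hinv
    subst hN
    by_cases hM1 : M = ⊥
    · exact ⟨0, by rw [hM1, Subgroup.card_bot, pow_zero]⟩
    have hc := card_eq_mul_sqImage h hM hM1 hinv
    have hq := four_le_qNum h
    have hpos : 0 < Nat.card (sqImage h hM) := Nat.card_pos
    obtain ⟨e, he⟩ := ih _ (by rw [hc]; nlinarith) (M := sqImage h hM) rfl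
      ((sqImage_le h hM).trans hM) (sqImage_invariant h hM hinv)
    exact ⟨e + 1, by rw [hc, he, pow_succ]⟩

theorem Q_invariant : ∀ c ∈ C, ∀ x ∈ Q, c * x * c⁻¹ ∈ Q :=
  fun _ hc _ hx => twoStab_norm h.setup (C_le h hc) hx

theorem exists_exponent : ∃ e, 1 ≤ e ∧ Nat.card Q = qNum G a ^ e := by
  obtain ⟨e, he⟩ := card_invariant h le_rfl (Q_invariant h)
  refine ⟨e, Nat.one_le_iff_ne_zero.2 fun e0 => ?_, he⟩
  have h1 := Nat.le_of_dvd Nat.card_pos (Subgroup.card_dvd_of_le (inv1_le h))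
  rw [card_inv1 h, he, e0, pow_zero] at h1
  have := four_le_qNum h
  omega

/-- Existence of `t x t = g d t f`. -/
theorem exists_decompQ {x : G} (hx : x ∈ Q) (hx1 : x ≠ 1) :
    ∃ g ∈ Q, ∃ d ∈ twoStab G a t, ∃ f ∈ Q, t * x * t = g * d * t * f := by
  have hS := h.setup
  have hne : (t * x * t) • a ≠ a := by
    intro e
    refine hx1 (Q_free hS hx (t_smul_ne hS) ?_)
    rw [mul_smul, mul_smul] at e
    conv_rhs => rw [← e, tt_smul hS]
  obtain ⟨z, hz, hzc⟩ := Q_trans hS (t_smul_ne hS) hne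
  have h1 : (t * x * t)⁻¹ • a ≠ a := fun e => hne (by conv_lhs => rw [← e, smul_inv_smul])
  obtain ⟨f, hf, hfc⟩ := Q_trans hS h1 (t_smul_ne hS)
  have hfix : (z⁻¹ * (t * x * t) * f⁻¹ * t) • a = a ∧
      (z⁻¹ * (t * x * t) * f⁻¹ * t) • (t • a) = t • a := by
    constructor
    · rw [mul_smul, mul_smul, mul_smul, show f⁻¹ • (t • a) = (t * x * t)⁻¹ • a by
        rw [inv_smul_eq_iff, hfc], smul_inv_smul, Q_inv_fix hS hz]
    · rw [mul_smul, tt_smul hS, mul_smul, Q_inv_fix hS hf, mul_smul, inv_smul_eq_iff, hzc]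
  refine ⟨z, hz, _, mem_twoStab.2 hfix, f, hf, ?_⟩
  simp [mul_assoc, hS.mul_self, tt_mul hS]

omit [Finite G] in
/-- Uniqueness of `g d t f`. -/
theorem decompQ_unique {g g' d d' f f' : G} (hg : g ∈ Q) (hg' : g' ∈ Q)
    (hd : d ∈ twoStab G a t) (hd' : d' ∈ twoStab G a t) (hf : f ∈ Q) (hf' : f' ∈ Q)
    (e : g * d * t * f = g' * d' * t * f') : g = g' ∧ d = d' ∧ f = f' := by
  have hS := h.setup
  have h1 : f⁻¹ • (t • a) = f'⁻¹ • (t • a) := by
    have hh1 := congrArg (fun z : G => z⁻¹ • a) e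
    simpa [mul_smul, t_inv hS, Q_inv_fix hS hg, Q_inv_fix hS hg', inv_smul_eq_iff.2 hd.1.symm,
      inv_smul_eq_iff.2 hd'.1.symm] using hh1
  have h2 := inv_injective (Q_smul_inj hS (Q.inv_mem hf) (Q.inv_mem hf') (t_smul_ne hS) h1)
  subst h2
  obtain ⟨e1, e2⟩ := Q_D_unique hS hg hg' hd hd' (mul_right_cancel (mul_right_cancel e))
  exact ⟨e1, e2, rfl⟩

/-- The distinguished pair: `t s t = r⁻¹ t r`. -/
theorem exists_sr : ∃ s r : G, s ∈ invs G a ∧ r ∈ Q ∧ r ≠ 1 ∧ t * s * t = r⁻¹ * t * r ∧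
    t * r * t = r * t * s := by
  obtain ⟨⟨s, r⟩, ⟨hs, hr, e⟩, -⟩ := structure_equation h.setup
  refine ⟨s, r, hs, hr, fun hr1 => ?_, e, ?_⟩
  · simp only [hr1, inv_one, one_mul, mul_one] at e
    apply h.setup.not_mem
    have : s = t := by
      calc s = t * (t * s * t) * t := by simp [mul_assoc, tt_mul h.setup, h.setup.mul_self]
        _ = t := by rw [e]; simp [mul_assoc, h.setup.mul_self]
    exact this ▸ hs.1
  · have e' : r * (t * s * t) = t * r := by rw [e]; group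
    calc t * r * t = r * (t * s * t) * t := by rw [e']
      _ = r * t * s := by simp [mul_assoc, h.setup.mul_self]

/-- `t (c⁻¹ s c) t` for `c` inverted. -/
theorem conj_eq_decomp {x g d f c : G} (hc : c ∈ C) (e : t * x * t = g * d * t * f) :
    t * (c⁻¹ * x * c) * t = (c * g * c⁻¹) * (c * d * c) * t * (c * f * c⁻¹) := by
  have hS := h.setup
  have h1 : t * c * t = c⁻¹ := C_conj h hc
  have h2 : t * c⁻¹ * t = c := by
    have := C_conj h (C.inv_mem hc); rwa [inv_inv] at this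
  calc t * (c⁻¹ * x * c) * t = (t * c⁻¹ * t) * (t * x * t) * (t * c * t) := by
        simp [mul_assoc, tt_mul hS]
    _ = c * (g * d * t * f) * c⁻¹ := by rw [h1, h2, e]
    _ = (c * g * c⁻¹) * (c * d) * (t * c⁻¹ * t) * t * c * (f * c⁻¹) := by
        rw [h2]; simp [mul_assoc]
        have h3 : t * c = c⁻¹ * t := by rw [← h1]; simp [mul_assoc, hS.mul_self]
        rw [← mul_assoc t c, h3]; simp [mul_assoc]
    _ = _ := by simp [mul_assoc, tt_mul hS, h2, hS.mul_self]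

end Cfsg.Agent.Lib.BenderSuzuki.Abelian.Setup
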